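import Groth.Agent.Sga3B.TorusEtLoc920
import Groth.Agent.Sga3B.MT.TorusFam
import Groth.Agent.Sga3.H829.MultConv
import Mathlib.AlgebraicGeometry.Morphisms.LocalFlatDescent
import Mathlib.RingTheory.FiniteType

/-!
# Groups of multiplicative type and of finite type over a scheme

* `of_iso`, `bc`: invariance under isomorphism, base change;
* `isAffineHom`, `locallyOfFinitePresentation`, `flat`: properties of the structure morphism;
* `exists_etale_split`: étale-locally on the base the group is `D(M)`, `M` finitely generated;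
* `of_split`, `of_bc`, `of_family`, `of_etale_split`: recognition after fpqc / étale base change.
-/

set_option autoImplicit false

universe u

open CategoryTheory MonoidalCategory CartesianMonoidalCategory MonObj GrpObj AlgebraicGeometry Limits
open TensorProduct
open Groth.Agent Groth.Agent.Books.AffBridge Groth.Agent.Sga3A Groth.Agent.Sga3A.MTBasis Groth.Agent.Sga3B

namespace K10.MTLoc

variable {S S' : Scheme.{u}}

/-- Invariance under isomorphism of group schemes. -/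
theorem of_iso {T T' : Over S} [GrpObj T] [GrpObj T'] (e : Grp.mk T ≅ Grp.mk T')
    (h : SGA3x.IsMultTypeFT T) : SGA3x.IsMultTypeFT T' := by
  obtain ⟨S', f, hf, hs, hc, h⟩ := h
  refine ⟨S', f, hf, hs, hc, fun s' => ?_⟩
  obtain ⟨U, hU, M, _, hM, ⟨hr⟩⟩ := h s'
  exact ⟨U, hU, M, inferInstance, hM, ⟨(BcIso.bcMapIso (U.ι ≫ f) e).symm ≪≫ hr⟩⟩

theorem of_iso' {T T' : Over S} [GrpObj T] [GrpObj T'] (e : T ≅ T') [IsMonHom e.hom]
    (h : SGA3x.IsMultTypeFT T) : SGA3x.IsMultTypeFT T' :=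
  of_iso (Grp.mkIso e (IsMonHom.one_hom e.hom) (IsMonHom.mul_hom e.hom)) h

/-- **Base change** along an arbitrary morphism. -/
theorem bc (g : S' ⟶ S) {T : Over S} [GrpObj T] (h : SGA3x.IsMultTypeFT T) :
    SGA3x.IsMultTypeFT (Red.bc g T) := by
  obtain ⟨X, p, hf, hs, hc, h⟩ := h
  refine ⟨pullback g p, pullback.fst g p, inferInstance, inferInstance, TorusBc.qc_cover_bc p g hc, fun x => ?_⟩
  obtain ⟨U, hU, M, _, hM, ⟨hr⟩⟩ := h (pullback.snd g p x)
  refine ⟨(pullback.snd g p) ⁻¹ᵁ U, hU, M, inferInstance, hM, ?_⟩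
  have e1 : ((pullback.snd g p) ⁻¹ᵁ U).ι ≫ pullback.fst g p ≫ g =
      ((pullback.snd g p) ∣_ U) ≫ U.ι ≫ p := by
    rw [pullback.condition, morphismRestrict_ι_assoc]
  have e2 := BcIso.bcMapIso ((pullback.snd g p) ∣_ U) hr
  exact ⟨(BcIso.bcCompIso _ _ _).symm ≪≫ BcIso.bcCongrIso (by rw [← e1, Category.assoc]) T ≪≫
    BcIso.bcCompIso _ _ _ ≪≫ e2 ≪≫ TorusAlgClosed.dsBcIso _ M⟩

/-- The structure morphism of `Spec ℤ[M]`, `M` finitely generated, is of finite presentation. -/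
lemma diag_lfp (M : Type) [AddCommGroup M] (hM : AddGroup.FG M) :
    LocallyOfFinitePresentation (Red.diag (ULift.{u} ℤ) M).hom := by
  have h0 : Group.FG (Multiplicative M) := AddGroup.fg_iff_mul_fg.mp hM
  have h1 : Algebra.FiniteType (ULift.{u} ℤ) (MonoidAlgebra (ULift.{u} ℤ) (Multiplicative M)) := by
    have : Monoid.FG (Multiplicative M) := Monoid.fg_of_group_fg
    infer_instance
  have h3 : IsNoetherianRing (ULift.{u} ℤ) :=
    isNoetherianRing_of_ringEquiv ℤ (ULift.ringEquiv (R := ℤ)).symm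
  have h2 : Algebra.FinitePresentation (ULift.{u} ℤ) (MonoidAlgebra (ULift.{u} ℤ) (Multiplicative M)) :=
    Algebra.FinitePresentation.of_finiteType.mp h1
  change LocallyOfFinitePresentation (Spec.map (CommRingCat.ofHom (algebraMap _ _)))
  rw [HasRingHomProperty.Spec_iff (P := @LocallyOfFinitePresentation)]
  simp only [CommRingCat.hom_ofHom]
  exact RingHom.finitePresentation_algebraMap.mpr h2

lemma diag_flat (M : Type) [AddCommGroup M] : Flat (Red.diag (ULift.{u} ℤ) M).hom := by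
  change Flat (Spec.map (CommRingCat.ofHom (algebraMap _ _)))
  rw [HasRingHomProperty.Spec_iff (P := @Flat)]
  simp only [CommRingCat.hom_ofHom]
  exact RingHom.flat_algebraMap_iff.mpr
    (inferInstanceAs (Module.Flat (ULift.{u} ℤ) (MonoidAlgebra (ULift.{u} ℤ) (Multiplicative M))))

theorem isAffineHom {T : Over S} [GrpObj T] (h : SGA3x.IsMultTypeFT T) : IsAffineHom T.hom :=
  Groth.Agent.Sga3.H829.MultConv.isAffineHom_of_isMultTypeFT h

theorem locallyOfFinitePresentation {T : Over S} [GrpObj T] (h : SGA3x.IsMultTypeFT T) :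
    LocallyOfFinitePresentation T.hom :=
  Groth.Agent.Sga3.H829.MultConv.prop_of_isMultTypeFT (P := @LocallyOfFinitePresentation)
    (fun M _ hM => diag_lfp M hM) h

/-- Flatness codescends along faithfully flat ring maps. -/
theorem flat_codescends : RingHom.CodescendsAlong.{u} RingHom.Flat RingHom.FaithfullyFlat := by
  refine RingHom.CodescendsAlong.mk _ RingHom.Flat.respectsIso fun R S T _ _ _ _ _ h h' ↦ ?_
  rw [RingHom.flat_algebraMap_iff] at h' ⊢
  rw [RingHom.faithfullyFlat_algebraMap_iff] at h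
  exact Module.Flat.of_flat_tensorProduct R T S

theorem flat_descends : MorphismProperty.DescendsAlong @Flat
    (@Surjective ⊓ @Flat ⊓ @QuasiCompact : MorphismProperty Scheme.{u}) :=
  HasRingHomProperty.descendsAlong_flat flat_codescends

theorem flat {T : Over S} [GrpObj T] (h : SGA3x.IsMultTypeFT T) : Flat T.hom := by
  have := flat_descends.{u}
  exact Groth.Agent.Sga3.H829.MultConv.prop_of_isMultTypeFT (P := @Flat) (fun M _ _ => diag_flat M) h

/-- A diagonalisable group of finite type is of multiplicative type and of finite type. -/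
theorem of_split {T : Over S} [GrpObj T] {M : Type} [AddCommGroup M] (hM : AddGroup.FG M)
    (h : Nonempty (Grp.mk T ≅ Grp.mk (Red.DS S M))) : SGA3x.IsMultTypeFT T := by
  obtain ⟨e⟩ := h
  refine ⟨S, 𝟙 S, inferInstance, inferInstance, fun V hV => ⟨V, hV.isCompact, by simp⟩, fun s => ?_⟩
  exact ⟨⊤, trivial, M, inferInstance, hM, ⟨BcIso.bcMapIso _ e ≪≫ TorusAlgClosed.dsBcIso _ M⟩⟩

/-- Descent along fpqc coverings. -/
theorem of_bc (f : S' ⟶ S) [Flat f] [Surjective f]
    (hc : ∀ V : S.Opens, IsAffineOpen V → ∃ W : S'.Opens, IsCompact (W : Set S') ∧ f.base '' (W : Set S') = (V : Set S))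
    {T : Over S} [GrpObj T] (h : SGA3x.IsMultTypeFT (Red.bc f T)) : SGA3x.IsMultTypeFT T := by
  obtain ⟨X, p, hp, hs, hcp, h⟩ := h
  refine ⟨X, p ≫ f, inferInstance, inferInstance, fun V hV => ?_, fun x => ?_⟩
  · obtain ⟨W, hW, hWV⟩ := hc V hV
    obtain ⟨W', hW', hWW'⟩ := AlgBc.qc_cover_of_isCompact p hcp W hW
    refine ⟨W', hW', ?_⟩
    have e : (p ≫ f).base = f.base ∘ p.base := by ext x; simp
    rw [e, Set.image_comp, hWW', hWV]
  · obtain ⟨U, hU, M, _, hM, ⟨hr⟩⟩ := h x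
    refine ⟨U, hU, M, inferInstance, hM, ⟨?_⟩⟩
    exact BcIso.bcCongrIso (Category.assoc _ _ _).symm T ≪≫ BcIso.bcCompIso (U.ι ≫ p) f T ≪≫ hr

section family

variable {J : Type u} {S' : J → Scheme.{u}}

/-- Recognition after base change to a family of flat open maps. -/
theorem of_family (f : ∀ j, S' j ⟶ S) (hfl : ∀ j, Flat (f j))
    (hop : ∀ j, IsOpenMap (f j).base) (hs : ∀ s : S, ∃ j, s ∈ Set.range (f j))
    {T : Over S} [GrpObj T] (h : ∀ j, SGA3x.IsMultTypeFT (Red.bc (f j) T)) : SGA3x.IsMultTypeFT T := by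
  classical
  choose X p hp hps hpc hsplit using h
  let q : (∐ X) ⟶ S := Sigma.desc fun j => p j ≫ f j
  have hq1 : Flat q := by
    have : ∀ j, Flat (p j ≫ f j) := fun j => inferInstance
    exact inferInstanceAs (Flat (Sigma.desc fun j => p j ≫ f j))
  have hι : ∀ j, Sigma.ι X j ≫ q = p j ≫ f j := fun j => Sigma.ι_desc _ _
  have hιa : ∀ j (x : X j), q (Sigma.ι X j x) = f j (p j x) := by
    intro j x
    have := congrArg (fun k => k.base x) (hι j)
    simpa using this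
  refine ⟨∐ X, q, ?_, ?_, fun V hV => ?_, fun x => ?_⟩
  · exact hq1
  · apply Surjective.sigmaDesc_of_union_range_eq_univ
    rw [Set.eq_univ_iff_forall]
    intro s
    obtain ⟨j, s', rfl⟩ := hs s
    obtain ⟨x, rfl⟩ := (p j).surjective s'
    exact Set.mem_iUnion.mpr ⟨j, x, by simp⟩
  · have key : ∀ v : V, ∃ B : Set S, IsOpen B ∧ v.1 ∈ B ∧ B ⊆ V ∧ ∃ W : (∐ X).Opens,
        IsCompact (W : Set ↥(∐ X)) ∧ q.base '' (W : Set ↥(∐ X)) = B := by
      intro v
      obtain ⟨j, s', hs'⟩ := hs v.1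
      have hv : s' ∈ (f j) ⁻¹ᵁ V := by change f j s' ∈ V; rw [hs']; exact v.2
      obtain ⟨_, ⟨A, hA, rfl⟩, hsA, hle⟩ := (S' j).isBasis_affineOpens.exists_subset_of_mem_open hv
        ((f j) ⁻¹ᵁ V).2
      obtain ⟨W, hW, hWA⟩ := hpc j A hA
      refine ⟨(f j).base '' (A : Set (S' j)), hop j _ A.2, ⟨s', hsA, hs'⟩, ?_, (Sigma.ι X j) ''ᵁ W, ?_, ?_⟩
      · rintro _ ⟨a, ha, rfl⟩
        exact hle ha
      · exact hW.image (Sigma.ι X j).continuous
      · rw [← hWA]
        ext s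
        constructor
        · rintro ⟨_, ⟨w, hw, rfl⟩, rfl⟩
          exact ⟨_, ⟨w, hw, rfl⟩, (hιa j w).symm⟩
        · rintro ⟨_, ⟨w, hw, rfl⟩, rfl⟩
          exact ⟨_, ⟨w, hw, rfl⟩, hιa j w⟩
    choose B hBo hvB hBV W hW hWB using key
    obtain ⟨t, ht⟩ := hV.isCompact.elim_finite_subcover B hBo
      (fun x hx => Set.mem_iUnion.mpr ⟨⟨x, hx⟩, hvB ⟨x, hx⟩⟩)
    have e : ((⨆ v ∈ t, W v : (∐ X).Opens) : Set ↥(∐ X)) = ⋃ v ∈ t, (W v : Set ↥(∐ X)) := by simp
    refine ⟨⨆ v ∈ t, W v, ?_, ?_⟩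
    · rw [e]
      exact t.isCompact_biUnion fun v _ => hW v
    · rw [e, Set.image_iUnion₂]
      refine Set.Subset.antisymm (Set.iUnion₂_subset fun v _ => ?_) (ht.trans ?_)
      · rw [hWB]; exact hBV v
      · exact Set.iUnion₂_mono fun v _ => (hWB v).symm.subset
  · obtain ⟨⟨j, y⟩, rfl⟩ := (sigmaMk X).surjective x
    rw [sigmaMk_mk]
    obtain ⟨U, hU, M, _, hM, ⟨hr⟩⟩ := hsplit j y
    let e := (Sigma.ι X j).isoImage U
    refine ⟨(Sigma.ι X j) ''ᵁ U, ⟨y, hU, rfl⟩, M, inferInstance, hM, ?_⟩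
    have e1 : ((Sigma.ι X j) ''ᵁ U).ι ≫ q = e.inv ≫ (U.ι ≫ p j) ≫ f j := by
      rw [← Scheme.Hom.isoImage_inv_ι, Category.assoc, Category.assoc, hι, Category.assoc]
    exact ⟨BcIso.bcCongrIso e1 T ≪≫ (BcIso.bcCompIso e.inv ((U.ι ≫ p j) ≫ f j) T) ≪≫
      BcIso.bcMapIso e.inv (BcIso.bcCompIso (U.ι ≫ p j) (f j) T ≪≫ hr) ≪≫ TorusAlgClosed.dsBcIso _ M⟩

end family

/-- Recognition étale-locally, point by point. -/
theorem of_etale {T : Over S} [GrpObj T]
    (h : ∀ s : S, ∃ (V : Scheme.{u}) (v : V ⟶ S), Etale v ∧ s ∈ Set.range v ∧ SGA3x.IsMultTypeFT (Red.bc v T)) :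
    SGA3x.IsMultTypeFT T := by
  choose V v hv hs hT using h
  refine of_family (J := S) (S' := V) v (fun j => ?_) (fun j => ?_) (fun s => ⟨s, hs s⟩) hT
  · have := hv j; infer_instance
  · have := hv j; exact (v j).isOpenMap

/-- Recognition étale-locally, point by point, through splittings. -/
theorem of_etale_split {T : Over S} [GrpObj T]
    (h : ∀ s : S, ∃ (V : Scheme.{u}) (v : V ⟶ S) (M : Type) (_ : AddCommGroup M), Etale v ∧ s ∈ Set.range v ∧
      AddGroup.FG M ∧ Nonempty (Grp.mk (Red.bc v T) ≅ Grp.mk (Red.DS V M))) :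
    SGA3x.IsMultTypeFT T :=
  of_etale fun s => by
    obtain ⟨V, v, M, _, hv, hs, hM, he⟩ := h s
    exact ⟨V, v, hv, hs, of_split hM he⟩

section split

/-- the character group in the universe `u` -/
abbrev Mu (M : Type) [AddCommGroup M] : Type u := ULift.{u} (Multiplicative M)

lemma fg_mu (M : Type) [AddCommGroup M] (hM : AddGroup.FG M) : Group.FG (Mu.{u} M) := by
  have h : Group.FG (Multiplicative M) := AddGroup.fg_iff_mul_fg.mp hM
  exact Group.fg_of_surjective (f := (MulEquiv.ulift (α := Multiplicative M)).symm.toMonoidHom)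
    (MulEquiv.surjective _)

/-- a base change of `Spec A` is diagonalisable iff the Hopf algebra has a basis of group-like elements. -/
theorem isSplit_iff {R A C : Type u} [CommRing R] [CommRing A] [HopfAlgebra R A] [CommRing C] [Algebra R C]
    (M : Type) [AddCommGroup M] :
    Nonempty (Grp.mk (Red.bc (Spec.map (CommRingCat.ofHom (algebraMap R C))) (SpecOver R A)) ≅
        Grp.mk (Red.DS (Spec (CommRingCat.of C)) M)) ↔
      Nonempty (GBasis C (C ⊗[R] A) (Mu.{u} M)) := by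
  obtain ⟨e₁⟩ := Hens.Dict.bc_specOver R A C
  change Red.IsSplitTorusWith M _ ↔ _
  rw [TorusBc.isSplitTorusWith_of_iso' ⟨e₁⟩, RG.BrDiag.isSplitTorusWith_iff]
  have h1 : (∃ e : SpecOver C (C ⊗[R] A) ≅ SpecOver C (MonoidAlgebra C (Multiplicative M)), IsMonHom e.hom) ↔
      Nonempty (Grp.mk (SpecOver C (C ⊗[R] A)) ≅
        Grp.mk (SpecOver C (MonoidAlgebra C (Multiplicative M)))) := by
    constructor
    · rintro ⟨e, he⟩
      exact ⟨Grp.mkIso' e⟩
    · rintro ⟨e⟩
      exact ⟨(Grp.forget _).mapIso e, e.hom.hom.isMonHom_hom⟩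
  rw [h1, Hens.Dict.nonempty_bialgEquiv]
  constructor
  · rintro ⟨e⟩
    exact ⟨(GBasis.ofBialgEquiv e).reindex MulEquiv.ulift.symm⟩
  · rintro ⟨g⟩
    exact ⟨(g.reindex MulEquiv.ulift).bialgEquiv.symm⟩

/-- The case of the spectrum of a Hopf algebra. -/
theorem exists_etale_split_specOver {R A : Type u} [CommRing R] [CommRing A] [HopfAlgebra R A]
    (hH : SGA3x.IsMultTypeFT (SpecOver R A)) (s : Spec (CommRingCat.of R)) :
    ∃ (B : Type u) (_ : CommRing B) (v : Spec (CommRingCat.of B) ⟶ Spec (CommRingCat.of R)) (M : Type)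
      (_ : AddCommGroup M), Etale v ∧ s ∈ Set.range v ∧ AddGroup.FG M ∧
      Nonempty (Grp.mk (Red.bc v (SpecOver R A)) ≅ Grp.mk (Red.DS (Spec (CommRingCat.of B)) M)) := by
  have hfp : Algebra.FinitePresentation R A := by
    have h2 : LocallyOfFinitePresentation (Spec.map (CommRingCat.ofHom (algebraMap R A))) :=
      locallyOfFinitePresentation hH
    rw [HasRingHomProperty.Spec_iff (P := @LocallyOfFinitePresentation)] at h2
    simp only [CommRingCat.hom_ofHom] at h2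
    exact RingHom.finitePresentation_algebraMap.mp h2
  obtain ⟨S', f, hf, hs, -, h⟩ := hH
  obtain ⟨s', hs'⟩ := hs.1 s
  obtain ⟨U, hU, M, _, hM, ⟨hr⟩⟩ := h s'
  obtain ⟨C, _, j, hj, hjU, ⟨c, hc⟩⟩ := NearRed.exists_affine S' U s' hU
  let i : Spec (CommRingCat.of C) ⟶ U := IsOpenImmersion.lift U.ι j (by
    rw [Scheme.Opens.range_ι]; exact hjU)
  have hi : i ≫ U.ι = j := IsOpenImmersion.lift_fac _ _ _
  let φ : CommRingCat.of R ⟶ CommRingCat.of C := Spec.preimage (j ≫ f)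
  let _ : Algebra R C := φ.hom.toAlgebra
  have hφ : Spec.map (CommRingCat.ofHom (algebraMap R C)) = j ≫ f := Spec.map_preimage _
  have hsp : Nonempty (Grp.mk (Red.bc (Spec.map (CommRingCat.ofHom (algebraMap R C))) (SpecOver R A)) ≅
      Grp.mk (Red.DS (Spec (CommRingCat.of C)) M)) := by
    refine ⟨BcIso.bcCongrIso ?_ (SpecOver R A) ≪≫ BcIso.bcCompIso i (U.ι ≫ f) (SpecOver R A) ≪≫
      BcIso.bcMapIso i hr ≪≫ TorusAlgClosed.dsBcIso _ M⟩
    rw [hφ, ← hi, Category.assoc]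
  have hflat : Module.Flat R C := by
    have h1 : Flat (Spec.map (CommRingCat.ofHom (algebraMap R C))) := by
      rw [hφ]; infer_instance
    rw [HasRingHomProperty.Spec_iff (P := @Flat)] at h1
    exact h1
  obtain ⟨g⟩ := (isSplit_iff M).mp hsp
  have hcs : Spec.map (CommRingCat.ofHom (algebraMap R C)) c = s := by
    rw [hφ, Scheme.Hom.comp_apply, hc, hs']
  have hcp : c.asIdeal.comap (algebraMap R C) = s.asIdeal := congrArg PrimeSpectrum.asIdeal hcs
  have hfg : Group.FG (Mu.{u} M) := fg_mu M hM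
  obtain ⟨_, h1, h2⟩ := TorusEtLoc920.faithfullyFlat_atPrime s.asIdeal c.asIdeal hcp
  obtain ⟨B, _, _, _, q, hq, hqs, hB⟩ := EtDesc920.exists_gbasis_etale (A := A) s.asIdeal
    (Localization.AtPrime c.asIdeal) (g.bc (IsScalarTower.toAlgHom R C (Localization.AtPrime c.asIdeal)))
  refine ⟨B, inferInstance, Spec.map (CommRingCat.ofHom (algebraMap R B)), M, inferInstance, ?_, ?_, hM,
    (isSplit_iff M).mpr hB⟩
  · rw [HasRingHomProperty.Spec_iff (P := @Etale)]
    simp only [CommRingCat.hom_ofHom]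
    exact RingHom.etale_algebraMap.mpr inferInstance
  · refine ⟨⟨q, hq⟩, ?_⟩
    exact PrimeSpectrum.ext hqs

/-- **Groups of multiplicative type and of finite type split étale-locally.** -/
theorem exists_etale_split {H : Over S} [GrpObj H] (hH : SGA3x.IsMultTypeFT H) (s : S) :
    ∃ (B : Type u) (_ : CommRing B) (v : Spec (CommRingCat.of B) ⟶ S) (M : Type) (_ : AddCommGroup M), Etale v ∧
      s ∈ Set.range v ∧ AddGroup.FG M ∧
      Nonempty (Grp.mk (Red.bc v H) ≅ Grp.mk (Red.DS (Spec (CommRingCat.of B)) M)) := by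
  obtain ⟨R, _, j, hj, -, ⟨x, hx⟩⟩ := NearRed.exists_affine S ⊤ s trivial
  have hH₁ : SGA3x.IsMultTypeFT (Red.bc j H) := bc j hH
  have haff : IsAffine (Red.bc j H).left := by
    have := isAffineHom hH₁
    exact isAffine_of_isAffineHom (Red.bc j H).hom
  obtain ⟨A, _, _, e, he⟩ := exists_hopf R (Red.bc j H)
  have hH₂ : SGA3x.IsMultTypeFT (SpecOver R A) := of_iso (Grp.mkIso' e) hH₁
  obtain ⟨B, _, v, M, _, hv, ⟨y, hy⟩, hM, ⟨hsp⟩⟩ := exists_etale_split_specOver hH₂ x
  refine ⟨B, inferInstance, v ≫ j, M, inferInstance, inferInstance, ⟨y, ?_⟩, hM, ?_⟩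
  · rw [Scheme.Hom.comp_apply, hy, hx]
  · exact ⟨BcIso.bcCompIso v j H ≪≫ BcIso.bcMapIso v (Grp.mkIso' e) ≪≫ hsp⟩

end split

end K10.MTLoc
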