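import Groth.Agent.SGA3x.K10.MTLoc
import Groth.Agent.Sga3.H827.ChartK
import Groth.Agent.Sga3B.Trans894

/-!
# Kernels of homomorphisms from groups of multiplicative type

`isMultTypeFT_kernel`: `T` of multiplicative type (and of finite type), `h : T ⟶ G` a homomorphism to a separated
group scheme locally of finite type, `k : K ⟶ T` the kernel of `h`: `K` is of multiplicative type.
-/

set_option autoImplicit false
universe u
open CategoryTheory MonoidalCategory CartesianMonoidalCategory MonObj GrpObj AlgebraicGeometry Limits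

namespace K10.MTKer

open Groth.Agent Groth.Agent.Sga3.H827 Groth.Agent.Sga3.H827.ChartK
open Groth.Agent.Sga3B.DSPts Groth.Agent.Sga3.H828.DiagChart Groth.Agent.Sga3.H828.DiagChart.Chart KerChart KerData
  ChartQ

variable {S : Scheme.{u}} {T G K : Over S} [GrpObj T] [GrpObj G] [GrpObj K] {M : Type} [AddCommGroup M]
  {V : Scheme.{u}} {v : V ⟶ S} {c : Chart T (Over.mk v) M} {h : T ⟶ G} {N : AddSubgroup M}

/-- The kernel in an adapted chart, as a group. -/
theorem exists_iso_ker (hN : Adapted h c N) (k : K ⟶ T) [IsMonHom k] [Mono k]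
    (hk : ∀ (X : Over S) (x : X ⟶ T), (∃ z : X ⟶ K, z ≫ k = x) ↔ x ≫ h = 1) :
    Nonempty (Grp.mk (Red.bc v K) ≅ Grp.mk (Red.DS V (M ⧸ N))) := by
  obtain ⟨i, hi⟩ := ChartQ.exists_iso c
  have hii : IsIso i.hom.hom.hom := inferInstanceAs (IsIso ((Grp.forget _).map i.hom))
  have him : IsMonHom i.hom.hom.hom := i.hom.hom.isMonHom_hom
  let a : Red.bc v K ⟶ Red.bc v T := (Over.pullback v).map k
  let b : Red.DS V (M ⧸ N) ⟶ Red.bc v T := Red.DSmap V (QuotientAddGroup.mk' N) ≫ i.hom.hom.hom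
  have hma : Mono a := inferInstanceAs (Mono ((Over.pullback v).map k))
  have hmb : Mono b := by
    have := mono_DSmap (QuotientAddGroup.mk' N) (QuotientAddGroup.mk'_surjective N) V
    exact mono_comp _ _
  have hmona : IsMonHom a := inferInstanceAs (IsMonHom ((Over.pullback v).map k))
  have hmonb : IsMonHom b := by
    have : IsMonHom (Red.DSmap V (QuotientAddGroup.mk' N)) := Sga3B.Trans894.isMonHom_DSmap _
    exact inferInstanceAs (IsMonHom (Red.DSmap V (QuotientAddGroup.mk' N) ≫ i.hom.hom.hom))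
  -- `a` factors through `b`
  obtain ⟨f, hf⟩ : ∃ f, f ≫ b = a := by
    let x : (Over.map v).obj (Red.bc v K) ⟶ T := (bcEquiv v _ T).symm a
    have hx : x ≫ h = 1 := by
      rw [← hk]
      refine ⟨(bcEquiv v _ K).symm (𝟙 _), ?_⟩
      apply (bcEquiv v _ T).injective
      change bcEquiv v _ T (_ ≫ k) = _
      rw [← bcEquiv_comp, MulEquiv.apply_symm_apply, MulEquiv.apply_symm_apply, Category.id_comp]
    have hx' := (hN _ (taut v _) x).1 hx
    let y : Red.bc v K ⟶ Red.DS V M := dsEquiv _ M (c.chr (taut v _) x : Multiplicative M →* Γ((Red.bc v K).left, ⊤))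
    have hy : ch v y = c.chr (taut v _) x := dsChar_dsEquiv _
    obtain ⟨z, hz⟩ := exists_factor N y (fun n hn => by
      have h2 := hx' n hn
      rw [← hy] at h2
      exact h2)
    refine ⟨z, ?_⟩
    change z ≫ _ ≫ _ = _
    rw [← Category.assoc, hz, hi, hy, MulEquiv.symm_apply_apply, MulEquiv.apply_symm_apply]
  -- `b` factors through `a`
  obtain ⟨g, hg⟩ : ∃ g, g ≫ a = b := by
    let x : (Over.map v).obj (Red.DS V (M ⧸ N)) ⟶ T := (bcEquiv v _ T).symm b
    have hxc : c.chr (taut v _) x = ch v (Red.DSmap V (QuotientAddGroup.mk' N)) := by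
      apply (c.chr (taut v _)).symm.injective
      apply (bcEquiv v _ T).injective
      rw [← hi, MulEquiv.symm_apply_apply, MulEquiv.apply_symm_apply]
    have hx : x ≫ h = 1 := by
      rw [hN _ (taut v _), hxc]
      intro n hn
      have h1 : (dsChar (Red.DSmap V (QuotientAddGroup.mk' N)) : Multiplicative M →* _) =
          (dsChar (𝟙 (Red.DS V (M ⧸ N)))).comp (AddMonoidHom.toMultiplicative (QuotientAddGroup.mk' N)) := by
        have h2 := dsChar_DSmap (QuotientAddGroup.mk' N) (𝟙 (Red.DS V (M ⧸ N)))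
        rwa [Category.id_comp] at h2
      change dsChar (Red.DSmap V (QuotientAddGroup.mk' N)) (Multiplicative.ofAdd n) = 1
      rw [h1]
      change dsChar (𝟙 (Red.DS V (M ⧸ N))) (Multiplicative.ofAdd (QuotientAddGroup.mk' N n)) = 1
      rw [show QuotientAddGroup.mk' N n = 0 from (QuotientAddGroup.eq_zero_iff n).2 hn]
      exact map_one _
    obtain ⟨z, hz⟩ := (hk _ x).mpr hx
    refine ⟨bcEquiv v _ K z, ?_⟩
    change _ ≫ (Over.pullback v).map k = b
    rw [bcEquiv_comp, hz]
    exact (bcEquiv v _ T).apply_symm_apply b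
  let e : Red.bc v K ≅ Red.DS V (M ⧸ N) := ⟨f, g,
    by rw [← cancel_mono a, Category.assoc, hg, hf, Category.id_comp],
    by rw [← cancel_mono b, Category.assoc, hf, hg, Category.id_comp]⟩
  refine ⟨Grp.mkIso e ?_ ?_⟩
  · rw [← cancel_mono b]
    change (η ≫ f) ≫ b = η ≫ b
    rw [Category.assoc, hf, IsMonHom.one_hom, IsMonHom.one_hom]
  · rw [← cancel_mono b]
    change (μ ≫ f) ≫ b = ((f ⊗ₘ f) ≫ μ) ≫ b
    rw [Category.assoc, hf, IsMonHom.mul_hom, Category.assoc, IsMonHom.mul_hom (f := b),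
      ← Category.assoc, tensorHom_comp_tensorHom, hf]

/-- **Kernels of homomorphisms from groups of multiplicative type.** -/
theorem isMultTypeFT_kernel (hT : SGA3x.IsMultTypeFT T) (h : T ⟶ G) [IsMonHom h] [IsSeparated G.hom]
    [LocallyOfFiniteType G.hom] (k : K ⟶ T) [IsMonHom k] [Mono k]
    (hk : ∀ (X : Over S) (x : X ⟶ T), (∃ z : X ⟶ K, z ≫ k = x) ↔ x ≫ h = 1) :
    SGA3x.IsMultTypeFT K := by
  refine MTLoc.of_etale_split fun s => ?_
  obtain ⟨C, _, q, M, _, hq, ⟨y, rfl⟩, hM, ⟨e⟩⟩ := MTLoc.exists_etale_split hT s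
  have : AddGroup.FG M := hM
  obtain ⟨B, _, v, c, N, h1, h2, h3⟩ := exists_adapted h q (Chart.ofIso q e) y
  refine ⟨_, v, M ⧸ N, inferInstance, h1, h2, ?_, exists_iso_ker h3 k hk⟩
  exact AddGroup.fg_of_surjective (QuotientAddGroup.mk'_surjective N)

end K10.MTKer
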