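import Groth.Agent.SGA3x.K10.MTLoc
import Groth.Agent.Sga3.H827.ChartK
import Groth.Agent.Sga3.H804.EtFam

/-!
# The `n`-torsion of groups of multiplicative type is finite
-/

set_option autoImplicit false
universe u
open CategoryTheory MonoidalCategory CartesianMonoidalCategory MonObj GrpObj AlgebraicGeometry Limits

namespace K10.MTTors

open Groth.Agent Groth.Agent.Sga3.H827 Groth.Agent.Sga3.H827.ChartK
open Groth.Agent.Sga3B.DSPts Groth.Agent.Sga3.H828.DiagChart Groth.Agent.Sga3.H828.DiagChart.Chart KerChart KerData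
  ChartQ

variable {S : Scheme.{u}}

/-- The subscheme of points killed by `n`. -/
noncomputable def tors (T : Over S) [GrpObj T] (n : ℕ) : Over S := pullback ((𝟙 T : T ⟶ T) ^ n) η[T]

/-- The inclusion of the points killed by `n`. -/
noncomputable def torsι (T : Over S) [GrpObj T] (n : ℕ) : tors T n ⟶ T := pullback.fst _ _

lemma exists_fac_iff {T : Over S} [GrpObj T] {X : Over S} (n : ℕ) (x : X ⟶ T) :
    (∃ y : X ⟶ tors T n, y ≫ torsι T n = x) ↔ x ^ n = 1 := by
  have h0 : x ≫ (𝟙 T : T ⟶ T) ^ n = x ^ n := by rw [MonObj.comp_pow, Category.comp_id]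
  constructor
  · rintro ⟨y, rfl⟩
    rw [← h0, Category.assoc]
    let q : tors T n ⟶ 𝟙_ (Over S) := pullback.snd ((𝟙 T : T ⟶ T) ^ n) η[T]
    have h1 : torsι T n ≫ (𝟙 T : T ⟶ T) ^ n = q ≫ η[T] := pullback.condition
    rw [h1, ← Category.assoc, Hom.one_def]
    congr 1
    exact toUnit_unique _ _
  · intro h
    refine ⟨pullback.lift x (toUnit _) ?_, pullback.lift_fst _ _ _⟩
    rw [h0, h, Hom.one_def]

variable {T : Over S} [GrpObj T] {M : Type} [AddCommGroup M]

/-- The `n`-th power map is adapted. -/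
lemma adapted {V : Scheme.{u}} {v : V ⟶ S} (c : Chart T (Over.mk v) M) (n : ℕ) :
    Adapted ((𝟙 T : T ⟶ T) ^ n) c (nsmulAddMonoidHom (α := M) n).range := by
  intro X t x
  have h0 : x ≫ (𝟙 T : T ⟶ T) ^ n = x ^ n := by rw [MonObj.comp_pow, Category.comp_id]
  rw [h0]
  constructor
  · rintro h _ ⟨m, rfl⟩
    have h1 : c.chr t (x ^ n) = 1 := by rw [h, map_one]
    rw [map_pow] at h1
    have h2 := congr($h1 (Multiplicative.ofAdd m))
    have h3 : Multiplicative.ofAdd (nsmulAddMonoidHom (α := M) n m) = (Multiplicative.ofAdd m) ^ n := rfl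
    rw [h3, map_pow]
    exact h2
  · intro h
    apply (c.chr t).injective
    rw [map_one, map_pow]
    refine MonoidHom.ext fun m => ?_
    have h1 := h _ ⟨m.toAdd, rfl⟩
    have h3 : Multiplicative.ofAdd (nsmulAddMonoidHom (α := M) n m.toAdd) = m ^ n := rfl
    rw [h3, map_pow] at h1
    exact h1

lemma isFinite_DS (S : Scheme.{u}) (Γ : Type) [AddCommGroup Γ] [Finite Γ] : IsFinite (Red.DS S Γ).hom := by
  have h1 : IsFinite (Red.diag (ULift.{u} ℤ) Γ).hom := by
    change IsFinite (Spec.map (CommRingCat.ofHom (algebraMap _ _)))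
    rw [IsFinite.SpecMap_iff]
    have : Finite (Multiplicative Γ) := inferInstanceAs (Finite Γ)
    exact RingHom.finite_algebraMap.mpr (Module.Finite.of_basis (MonoidAlgebra.basis (Multiplicative Γ) (ULift.{u} ℤ)))
  exact MorphismProperty.pullback_snd (P := @IsFinite) _ _ h1

lemma finite_quot (M : Type) [AddCommGroup M] (hM : AddGroup.FG M) (n : ℕ) (hn : n ≠ 0) :
    Finite (M ⧸ (nsmulAddMonoidHom (α := M) n).range) := by
  have h1 : AddGroup.FG (M ⧸ (nsmulAddMonoidHom (α := M) n).range) :=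
    AddGroup.fg_of_surjective (QuotientAddGroup.mk'_surjective _)
  have h2 : IsAddTorsion (M ⧸ (nsmulAddMonoidHom (α := M) n).range) := by
    intro x
    obtain ⟨m, rfl⟩ := QuotientAddGroup.mk'_surjective _ x
    refine isOfFinAddOrder_iff_nsmul_eq_zero.mpr ⟨n, Nat.pos_of_ne_zero hn, ?_⟩
    rw [← map_nsmul]
    exact (QuotientAddGroup.eq_zero_iff _).mpr ⟨m, rfl⟩
  have : Module.Finite ℤ (M ⧸ (nsmulAddMonoidHom (α := M) n).range) :=
    Module.Finite.iff_addGroup_fg.mpr h1
  exact Module.finite_of_fg_torsion _ (isAddTorsion_iff_isTorsion_int.mp h2)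

/-- **The `n`-torsion of a group of multiplicative type is finite.** -/
theorem isFinite_tors (hT : SGA3x.IsMultTypeFT T) (n : ℕ) (hn : n ≠ 0) : IsFinite (tors T n).hom := by
  choose B i1 v M i2 hv hs hM he using fun s : S => MTLoc.exists_etale_split hT s
  refine Sga3.H804.EtFam.of_etale_family (P := @IsFinite) (tors T n).hom
    (fun s : S => Spec (CommRingCat.of (B s))) v hv
    (fun s => ⟨s, hs s⟩) (fun s => IsPullback.of_hasPullback (tors T n).hom (v s)) fun s => ?_
  obtain ⟨e⟩ := he s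
  obtain ⟨i⟩ := exists_iso_kernel (adapted (Chart.ofIso (v s) e) n)
  have h1 := finite_quot (M s) (hM s) n hn
  have h2 := isFinite_DS (Spec (CommRingCat.of (B s))) (M s ⧸ (nsmulAddMonoidHom (α := M s) n).range)
  have h3 : IsFinite (Red.bc (v s) (pullback ((𝟙 T : T ⟶ T) ^ n) η[T])).hom := by
    rw [← Over.w i.hom]
    have : IsIso i.hom.left := inferInstanceAs (IsIso ((Over.forget _).map i.hom))
    infer_instance
  exact h3

end K10.MTTors
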