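import Groth.Prelude.Def_TwC
import Groth.Agent.Etbase.FpqcDescent
import Groth.Agent.Sga3B.FpqcLoc
import Mathlib.AlgebraicGeometry.ZariskisMainTheorem
import Mathlib.AlgebraicGeometry.Morphisms.LocalFlatDescent

/-!
# Isotrivial twisted constant schemes are unions of finite clopen pieces
-/

set_option autoImplicit false
universe u v
open CategoryTheory CategoryTheory.Limits AlgebraicGeometry

namespace K10.TwFin

variable {S : Scheme.{u}}

lemma locallyQuasiFinite_of_etale {X Y : Scheme.{u}} (f : X ⟶ Y) [Etale f] : LocallyQuasiFinite f where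
  quasiFinite_appLE {U} hU {V} hV e := by
    have h := HasRingHomProperty.appLE @Etale f ‹_› ⟨U, hU⟩ ⟨V, hV⟩ e
    algebraize [(f.appLE U V e).hom]
    change Algebra.QuasiFinite Γ(Y, U) Γ(X, V)
    infer_instance

/-- A morphism is separated if the diagonal has closed range. -/
lemma isSeparated_of_isClosed {X : Scheme.{u}} (f : X ⟶ S) (h : IsClosed (Set.range (pullback.diagonal f))) :
    IsSeparated f :=
  ⟨.of_isPreimmersion _ h⟩

/-- The structure morphism of a constant scheme is étale. -/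
lemma etale_const (M : Type v) [Small.{u} M] : Etale (TwC.const S M).hom := by
  change Etale (Sigma.desc fun _ : M => 𝟙 S)
  rw [IsZariskiLocalAtSource.iff_of_openCover (P := @Etale) (sigmaOpenCover (fun _ : M => S))]
  intro m
  change Etale (Sigma.ι (fun _ : M => S) m ≫ Sigma.desc fun _ : M => 𝟙 S)
  rw [Sigma.ι_desc]
  infer_instance

lemma exists_ι (M : Type v) [Small.{u} M] (z : ↥(∐ fun _ : M => S)) :
    ∃ m : M, z ∈ Set.range (Sigma.ι (fun _ : M => S) m) := by
  obtain ⟨i, x, hx⟩ := (sigmaOpenCover (fun _ : M => S)).exists_eq z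
  exact ⟨i, x, hx⟩

/-- The structure morphism of a constant scheme is separated. -/
lemma isSeparated_const (M : Type v) [Small.{u} M] : IsSeparated (TwC.const S M).hom := by
  let X : Scheme.{u} := ∐ fun _ : M => S
  let f : X ⟶ S := Sigma.desc fun _ : M => 𝟙 S
  let j : ∀ m : M, S ⟶ X := fun m => Sigma.ι (fun _ : M => S) m
  have hj : ∀ m, j m ≫ f = 𝟙 S := fun m => Sigma.ι_desc _ _
  change IsSeparated f
  apply isSeparated_of_isClosed
  rw [← isOpen_compl_iff, isOpen_iff_forall_mem_open]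
  intro z hz
  obtain ⟨i, hi⟩ : ∃ i : M, pullback.fst f f z ∈ Set.range (j i) := exists_ι M _
  obtain ⟨k, hk⟩ : ∃ k : M, pullback.snd f f z ∈ Set.range (j k) := exists_ι M _
  have hik : i ≠ k := by
    rintro rfl
    apply hz
    let κ := (pullback f f).fromSpecResidueField z
    have h1 : ∀ p : pullback f f ⟶ X, p z ∈ Set.range (j i) → ∃ a, a ≫ j i = κ ≫ p := by
      intro p hp
      refine ⟨IsOpenImmersion.lift (j i) (κ ≫ p) ?_, IsOpenImmersion.lift_fac _ _ _⟩
      rintro _ ⟨x, rfl⟩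
      rw [Scheme.Hom.comp_apply, Scheme.fromSpecResidueField_apply]
      exact hp
    obtain ⟨a, ha⟩ := h1 _ hi
    obtain ⟨b, hb⟩ := h1 _ hk
    have hab : a = b := by
      have e1 : a = (a ≫ j i) ≫ f := by rw [Category.assoc, hj, Category.comp_id]
      have e2 : b = (b ≫ j i) ≫ f := by rw [Category.assoc, hj, Category.comp_id]
      rw [e1, e2, ha, hb, Category.assoc, Category.assoc, pullback.condition]
    have h2 : κ ≫ pullback.fst f f = κ ≫ pullback.snd f f := by rw [← ha, ← hb, hab]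
    have h3 : κ = (κ ≫ pullback.fst f f) ≫ pullback.diagonal f := by
      apply pullback.hom_ext
      · rw [Category.assoc, pullback.diagonal_fst, Category.comp_id]
      · rw [Category.assoc, pullback.diagonal_snd, Category.comp_id, h2]
    have h4 : z ∈ Set.range κ := by
      rw [Scheme.range_fromSpecResidueField]
      rfl
    obtain ⟨x, hx⟩ := h4
    refine ⟨(κ ≫ pullback.fst f f) x, ?_⟩
    rw [← Scheme.Hom.comp_apply, ← h3, hx]
  refine ⟨(pullback.fst f f) ⁻¹' Set.range (j i) ∩ (pullback.snd f f) ⁻¹' Set.range (j k), ?_, ?_, hi, hk⟩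
  · rintro w ⟨hw1, hw2⟩ ⟨x, rfl⟩
    rw [Set.mem_preimage, ← Scheme.Hom.comp_apply, pullback.diagonal_fst] at hw1
    rw [Set.mem_preimage, ← Scheme.Hom.comp_apply, pullback.diagonal_snd] at hw2
    obtain ⟨a, ha⟩ := hw1
    obtain ⟨b, hb⟩ := hw2
    have h5 := (sigmaι_eq_iff (fun _ : M => S) i k a b).mp (ha.trans hb.symm)
    exact hik (congrArg Sigma.fst h5)
  · exact ((j i).isOpenEmbedding.isOpen_range.preimage (pullback.fst f f).continuous).inter
      ((j k).isOpenEmbedding.isOpen_range.preimage (pullback.snd f f).continuous)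

/-- Properties of constant schemes descend to isotrivial twisted constant schemes. -/
theorem prop_of_isotrivial (P : MorphismProperty Scheme.{u}) [IsZariskiLocalAtTarget P]
    [P.IsStableUnderBaseChange] [P.DescendsAlong (@Surjective ⊓ @Flat ⊓ @QuasiCompact)]
    (hP : ∀ (S : Scheme.{u}) (M : Type u), P (TwC.const S M).hom) {X : Over S} {S' : Scheme.{u}} (f : S' ⟶ S)
    [IsFinite f] [Flat f] [Surjective f]
    (h : ∀ s' : S', ∃ U : S'.Opens, s' ∈ U ∧ ∃ M : Type u,
      Nonempty (Red.bc (U.ι ≫ f) X ≅ TwC.const (U : Scheme.{u}) M)) : P X.hom := by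
  refine Groth.Agent.Sga3B.FpqcLoc.of_fpqc_cover X.hom f (fun V hV => ?_) fun s' => ?_
  · refine ⟨f ⁻¹ᵁ V, (hV.preimage f).isCompact, ?_⟩
    exact Set.image_preimage_eq _ f.surjective
  · obtain ⟨U, hU, M, ⟨e⟩⟩ := h s'
    refine ⟨U, hU, ?_⟩
    have h1 : P (TwC.const (U : Scheme.{u}) M).hom := hP _ M
    have h2 : (Red.bc (U.ι ≫ f) X).hom = e.hom.left ≫ (TwC.const (U : Scheme.{u}) M).hom := (Over.w e.hom).symm
    change P (Red.bc (U.ι ≫ f) X).hom
    rw [h2]
    have h3 : IsIso e.hom.left := inferInstanceAs (IsIso ((Over.forget _).map e.hom))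
    exact (P.cancel_left_of_respectsIso _ _).mpr h1

/-- **Every point of an isotrivial twisted constant scheme has a clopen neighbourhood which is finite over the base.** -/
theorem exists_clopen {X : Over S} [IsSeparated X.hom] [Etale X.hom] {S' : Scheme.{u}} (f : S' ⟶ S)
    [IsFinite f] [Etale f] [Surjective f]
    (h : ∀ s' : S', ∃ U : S'.Opens, s' ∈ U ∧ IsClosed (U : Set S') ∧ ∃ M : Type u,
      Nonempty (Red.bc (U.ι ≫ f) X ≅ TwC.const (U : Scheme.{u}) M)) (x : X.left) :
    ∃ V : X.left.Opens, x ∈ V ∧ IsClosed (V : Set X.left) ∧ IsFinite (V.ι ≫ X.hom) := by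
  obtain ⟨s', hs'⟩ := f.surjective (X.hom x)
  obtain ⟨U, hU, hUc, M, ⟨e⟩⟩ := h s'
  -- the point of the base change
  obtain ⟨y, hy1, hy2⟩ := Scheme.Pullback.exists_preimage_pullback (f := X.hom) (g := U.ι ≫ f) x ⟨s', hU⟩
    (by rw [Scheme.Hom.comp_apply]; exact hs'.symm)
  obtain ⟨m, u, hu⟩ := exists_ι M (e.hom.left y)
  let j : (U : Scheme.{u}) ⟶ pullback X.hom (U.ι ≫ f) := Sigma.ι (fun _ : M => (U : Scheme.{u})) m ≫ e.inv.left
  have he : e.hom.left ≫ e.inv.left = 𝟙 _ := congrArg CommaMorphism.left e.hom_inv_id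
  have hju : j u = y := by
    rw [Scheme.Hom.comp_apply, hu, ← Scheme.Hom.comp_apply, he]
    rfl
  have hj1 : IsIso e.inv.left := inferInstanceAs (IsIso ((Over.forget _).map e.inv))
  have hj : IsOpenImmersion j := inferInstance
  have hjs : j ≫ pullback.snd X.hom (U.ι ≫ f) = 𝟙 _ := by
    have h1 : e.inv.left ≫ pullback.snd X.hom (U.ι ≫ f) = (TwC.const (U : Scheme.{u}) M).hom := Over.w e.inv
    rw [Category.assoc, h1]
    exact Sigma.ι_desc _ _
  let w : (U : Scheme.{u}) ⟶ X.left := j ≫ pullback.fst X.hom (U.ι ≫ f)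
  have hw : w ≫ X.hom = U.ι ≫ f := by
    rw [Category.assoc, pullback.condition, reassoc_of% hjs]
  have hwet : Etale w := inferInstance
  have hUι : IsClosedImmersion U.ι := .of_isPreimmersion _ (by rw [Scheme.Opens.range_ι]; exact hUc)
  have hfin : IsFinite (w ≫ X.hom) := by rw [hw]; infer_instance
  have hwfin : IsFinite w := IsFinite.of_comp w X.hom
  have hclosed : IsClosed (Set.range w) := w.isClosedMap.isClosed_range
  let V : X.left.Opens := ⟨Set.range w, w.isOpenMap.isOpen_range⟩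
  let w' : (U : Scheme.{u}) ⟶ (V : Scheme.{u}) := IsOpenImmersion.lift V.ι w (by
    rw [Scheme.Opens.range_ι]
    exact subset_rfl)
  have hw' : w' ≫ V.ι = w := IsOpenImmersion.lift_fac _ _ _
  have hsurj : Surjective w' := by
    refine ⟨fun v => ?_⟩
    obtain ⟨a, ha⟩ := v.2
    refine ⟨a, Subtype.ext ?_⟩
    change V.ι (w' a) = v.1
    rw [← Scheme.Hom.comp_apply, hw', ha]
  have h1 : UniversallyClosed (w' ≫ V.ι ≫ X.hom) := by
    rw [reassoc_of% hw']
    infer_instance
  have h2 : UniversallyClosed (V.ι ≫ X.hom) := .of_comp_surjective w' _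
  have h3 : IsProper (V.ι ≫ X.hom) := { }
  have h4 : LocallyQuasiFinite (V.ι ≫ X.hom) := locallyQuasiFinite_of_etale _
  refine ⟨V, ?_, hclosed, .of_isProper_of_locallyQuasiFinite _⟩
  refine ⟨u, ?_⟩
  rw [Scheme.Hom.comp_apply, hju, hy1]

end K10.TwFin
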