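/-
Filtered families of subschemes which contain all infinitesimal fibres (S5309).
-/
import Mathlib

universe u

open CategoryTheory Limits AlgebraicGeometry TopologicalSpace IsLocalRing

namespace K10.FiltSub

/-- An immersion `x : Y ⟶ X` whose range contains `p` has a "local ideal" at `p`. -/
theorem exists_ideal {X Y : Scheme.{u}} (x : Y ⟶ X) [IsImmersion x] (p : X)
    (hp : p ∈ Set.range x) :
    ∃ J : Ideal (X.presheaf.stalk p), ∀ (R : CommRingCat.{u}) (φ : X.presheaf.stalk p ⟶ R),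
      (∃ l : Spec R ⟶ Y, l ≫ x = Spec.map φ ≫ X.fromSpecStalk p) ↔ J ≤ RingHom.ker φ.hom := by
  let g := X.fromSpecStalk p
  let sn := pullback.snd x g
  have : IsImmersion sn := MorphismProperty.pullback_snd _ _ inferInstance
  have hcl : closedPoint (X.presheaf.stalk p) ∈ Set.range sn := by
    obtain ⟨y, hy⟩ := hp
    obtain ⟨z, -, hz⟩ := Scheme.Pullback.exists_preimage_pullback (f := x) (g := g) y
      (closedPoint (X.presheaf.stalk p)) (by
        rw [hy]; exact (Scheme.fromSpecStalk_closedPoint).symm)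
    exact ⟨z, hz⟩
  have htop : sn.coborderRange = ⊤ := by
    refine (IsLocalRing.closedPoint_mem_iff (R := X.presheaf.stalk p) sn.coborderRange).mp ?_
    exact subset_coborder hcl
  have : IsClosedImmersion sn := by
    rw [← sn.liftCoborder_ι]
    have : IsIso sn.coborderRange.ι := by rw [htop, ← Scheme.topIso_hom]; infer_instance
    infer_instance
  obtain ⟨J, e, he⟩ := IsClosedImmersion.Spec_iff.mp (inferInstance : IsClosedImmersion sn)
  refine ⟨J, fun R φ => ⟨?_, ?_⟩⟩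
  · rintro ⟨l, hl⟩
    let m : Spec R ⟶ pullback x g := pullback.lift l (Spec.map φ) hl
    have hm : (m ≫ e.hom) ≫ Spec.map (CommRingCat.ofHom (Ideal.Quotient.mk J)) = Spec.map φ := by
      rw [Category.assoc, ← he]
      exact pullback.lift_snd _ _ _
    obtain ⟨ψ, hψ⟩ := Spec.map_surjective (m ≫ e.hom)
    rw [← hψ, ← Spec.map_comp] at hm
    have := Spec.map_injective hm
    intro a ha
    rw [RingHom.mem_ker, ← this]
    simp [Ideal.Quotient.eq_zero_iff_mem.mpr ha]
  · intro hJ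
    let ψ : CommRingCat.of (X.presheaf.stalk p ⧸ J) ⟶ R :=
      CommRingCat.ofHom (Ideal.Quotient.lift J φ.hom hJ)
    have hψ : CommRingCat.ofHom (Ideal.Quotient.mk J) ≫ ψ = φ := by
      ext a; simp [ψ]
    refine ⟨Spec.map ψ ≫ e.inv ≫ pullback.fst x g, ?_⟩
    rw [Category.assoc, Category.assoc, pullback.condition]
    have h2 : e.inv ≫ sn = Spec.map (CommRingCat.ofHom (Ideal.Quotient.mk J)) := by
      rw [he, Iso.inv_hom_id_assoc]
    change Spec.map ψ ≫ e.inv ≫ sn ≫ g = _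
    rw [reassoc_of% h2, ← Category.assoc, ← Spec.map_comp, hψ]

/-- The largest open subset over which `x` has a section. -/
def W {X Y : Scheme.{u}} (x : Y ⟶ X) : X.Opens :=
  sSup {U : X.Opens | ∃ s : U.toScheme ⟶ Y, s ≫ x = U.ι}

theorem mem_W {X Y : Scheme.{u}} (x : Y ⟶ X) (p : X) :
    p ∈ W x ↔ ∃ U : X.Opens, p ∈ U ∧ ∃ s : U.toScheme ⟶ Y, s ≫ x = U.ι := by
  unfold W
  rw [Opens.mem_sSup]
  constructor
  · rintro ⟨U, hU, hp⟩; exact ⟨U, hp, hU⟩
  · rintro ⟨U, hp, hU⟩; exact ⟨U, hU, hp⟩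

theorem W_le {X Y Z : Scheme.{u}} (x : Y ⟶ X) (y : Z ⟶ X) (t : Y ⟶ Z) (h : t ≫ y = x) :
    W x ≤ W y := by
  intro p hp
  obtain ⟨U, hU, s, hs⟩ := (mem_W x p).mp hp
  exact (mem_W y p).mpr ⟨U, hU, s ≫ t, by rw [Category.assoc, h, hs]⟩

theorem isIso_of_W {X Y : Scheme.{u}} (x : Y ⟶ X) [Mono x] (h : W x = ⊤) : IsIso x := by
  rw [← MorphismProperty.isomorphisms.iff]
  have hcov : ∀ p : X, ∃ U : X.Opens, p ∈ U ∧ ∃ s : U.toScheme ⟶ Y, s ≫ x = U.ι := fun p =>
    (mem_W x p).mp (by rw [h]; trivial)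
  choose U hU s hs using hcov
  have hsup : iSup U = ⊤ := by
    ext p; simp only [Opens.coe_iSup, Set.mem_iUnion]
    exact ⟨fun _ => trivial, fun _ => ⟨p, hU p⟩⟩
  refine (IsZariskiLocalAtTarget.iff_of_iSup_eq_top (P := MorphismProperty.isomorphisms Scheme.{u})
    U hsup).mpr fun p => ?_
  change IsIso (x ∣_ U p)
  have : Mono (x ∣_ U p) := by
    rw [← (pullbackRestrictIsoRestrict x (U p)).inv_hom_id_assoc (x ∣_ U p),
      pullbackRestrictIsoRestrict_hom_morphismRestrict]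
    infer_instance
  have : IsSplitEpi (pullback.snd x (U p).ι) :=
    ⟨⟨⟨pullback.lift (s p) (𝟙 _) (by rw [hs p, Category.id_comp]), pullback.lift_snd _ _ _⟩⟩⟩
  have : IsIso (pullback.snd x (U p).ι) := isIso_of_mono_of_isSplitEpi _
  rw [← (pullbackRestrictIsoRestrict x (U p)).inv_hom_id_assoc (x ∣_ U p),
      pullbackRestrictIsoRestrict_hom_morphismRestrict]
  infer_instance

/-- A nonempty closed subset has a point all of whose proper generizations are outside. -/
theorem exists_min {X : Type*} [TopologicalSpace X] [QuasiSober X] [T0Space X] (C : Set X)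
    (hC : IsClosed C) (hne : C.Nonempty) :
    ∃ p ∈ C, ∀ q, q ⤳ p → q ≠ p → q ∉ C := by
  obtain ⟨c, hc⟩ := hne
  obtain ⟨Z, hZ, hcZ, hmax⟩ : ∃ Z : Set X, (IsIrreducible Z ∧ Z ⊆ C) ∧ c ∈ Z ∧
      ∀ T : Set X, IsIrreducible T → T ⊆ C → Z ⊆ T → Z = T := by
    obtain ⟨Z, h1, h2⟩ := zorn_subset_nonempty {Z : Set X | IsPreirreducible Z ∧ Z ⊆ C}
      (by
        intro ch hch hchain hchne
        refine ⟨⋃₀ ch, ⟨?_, ?_⟩, fun s hs => Set.subset_sUnion_of_mem hs⟩
        · intro u v hu hv hu' hv'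
          obtain ⟨y, hy, hyu⟩ := hu'
          obtain ⟨z, hz, hzv⟩ := hv'
          obtain ⟨p, hp, hyp⟩ := Set.mem_sUnion.mp hy
          obtain ⟨q, hq, hzq⟩ := Set.mem_sUnion.mp hz
          rcases hchain.total hp hq with hpq | hqp
          · obtain ⟨w, hw, hw'⟩ := (hch hq).1 u v hu hv ⟨y, hpq hyp, hyu⟩ ⟨z, hzq, hzv⟩
            exact ⟨w, Set.mem_sUnion_of_mem hw hq, hw'⟩
          · obtain ⟨w, hw, hw'⟩ := (hch hp).1 u v hu hv ⟨y, hyp, hyu⟩ ⟨z, hqp hzq, hzv⟩
            exact ⟨w, Set.mem_sUnion_of_mem hw hp, hw'⟩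
        · exact Set.sUnion_subset fun s hs => (hch hs).2) {c}
      ⟨isIrreducible_singleton.isPreirreducible, Set.singleton_subset_iff.mpr hc⟩
    refine ⟨Z, ⟨⟨⟨c, h1 rfl⟩, h2.prop.1⟩, h2.prop.2⟩, h1 rfl, fun T hT hTC hZT => ?_⟩
    exact hZT.antisymm (h2.le_of_ge ⟨hT.isPreirreducible, hTC⟩ hZT)
  have hZc : IsClosed Z := by
    have : Z = closure Z := hmax _ hZ.1.closure (closure_minimal hZ.2 hC) subset_closure
    rw [this]; exact isClosed_closure
  obtain ⟨p, hp⟩ := QuasiSober.sober hZ.1 hZc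
  refine ⟨p, hZ.2 hp.mem, fun q hqp hne hq => hne ?_⟩
  have h1 : Z ⊆ closure {q} := by
    rw [← hp.def]
    exact closure_minimal (Set.singleton_subset_iff.mpr hqp.mem_closure) isClosed_closure
  have h2 : Z = closure {q} := hmax _ isIrreducible_singleton.closure
    (closure_minimal (Set.singleton_subset_iff.mpr hq) hC) h1
  have h3 : p ⤳ q := by
    rw [specializes_iff_mem_closure, hp.def, h2]
    exact subset_closure rfl
  exact (hqp.antisymm h3).eq

/-- Commutative algebra: `J` vanishes at the non maximal primes, hence is killed by a power of the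
maximal ideal. -/
theorem exists_pow_mul_eq_bot {B : Type*} [CommRing B] [IsLocalRing B] [IsNoetherianRing B]
    (J : Ideal B) (hJ : ∀ (q : Ideal B) [q.IsPrime], q ≠ maximalIdeal B →
      J ≤ RingHom.ker (algebraMap B (Localization.AtPrime q))) :
    ∃ N : ℕ, maximalIdeal B ^ N * J = ⊥ := by
  classical
  have hrad : maximalIdeal B ≤ (Submodule.annihilator J).radical := by
    rw [Ideal.radical_eq_sInf]
    refine le_sInf ?_
    rintro q ⟨hq, hqp⟩
    by_contra hcon
    have hne : q ≠ maximalIdeal B := fun h => hcon (by rw [h])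
    have h1 := hJ q hne
    obtain ⟨T, hT⟩ := (inferInstance : IsNoetherian B B).noetherian J
    have h2 : ∀ a ∈ T, ∃ s : q.primeCompl, (s : B) * a = 0 := by
      intro a ha
      have ha' : a ∈ J := by rw [← hT]; exact Submodule.subset_span ha
      have := h1 ha'
      rw [RingHom.mem_ker, IsLocalization.map_eq_zero_iff q.primeCompl] at this
      exact this
    choose! s hs using h2
    have h3 : ((∏ a ∈ T, s a : q.primeCompl) : B) ∈ Submodule.annihilator J := by
      rw [Submodule.mem_annihilator]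
      intro n hn
      rw [← hT] at hn
      refine Submodule.span_induction ?_ ?_ ?_ ?_ hn
      · intro a ha
        rw [Submonoid.coe_finsetProd, ← Finset.prod_erase_mul _ _ ha, smul_eq_mul, mul_assoc,
          hs a ha, mul_zero]
      · simp
      · intro a b _ _ ha hb; rw [smul_add, ha, hb, add_zero]
      · intro r a _ ha; rw [smul_comm, ha, smul_zero]
    exact (∏ a ∈ T, s a : q.primeCompl).2 (hq h3)
  obtain ⟨N, hN⟩ := Ideal.exists_pow_le_of_le_radical_of_fg hrad
    ((inferInstance : IsNoetherian B B).noetherian _)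
  refine ⟨N, ?_⟩
  rw [eq_bot_iff]
  calc maximalIdeal B ^ N * J ≤ Submodule.annihilator J * J := Ideal.mul_mono_left hN
    _ = ⊥ := by rw [mul_comm]; exact Submodule.mul_annihilator J
    _ ≤ ⊥ := le_rfl

theorem exists_pow_inf_eq_bot {B : Type*} [CommRing B] [IsLocalRing B] [IsNoetherianRing B]
    (J : Ideal B) (hJ : ∀ (q : Ideal B) [q.IsPrime], q ≠ maximalIdeal B →
      J ≤ RingHom.ker (algebraMap B (Localization.AtPrime q))) :
    ∃ N : ℕ, J ⊓ maximalIdeal B ^ N = ⊥ := by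
  obtain ⟨N, hN⟩ := exists_pow_mul_eq_bot J hJ
  obtain ⟨k, hk⟩ := Ideal.exists_pow_inf_eq_pow_smul (maximalIdeal B) (M := B) (J : Submodule B B)
  refine ⟨N + k, ?_⟩
  have := hk (N + k) (by omega)
  rw [Nat.add_sub_cancel] at this
  rw [eq_bot_iff, inf_comm]
  calc maximalIdeal B ^ (N + k) ⊓ J = maximalIdeal B ^ (N + k) • (⊤ : Submodule B B) ⊓ J := by
        rw [smul_eq_mul, Ideal.mul_top]
    _ = maximalIdeal B ^ N • (maximalIdeal B ^ k • (⊤ : Submodule B B) ⊓ J) := this
    _ ≤ maximalIdeal B ^ N • J := Submodule.smul_mono le_rfl inf_le_right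
    _ = ⊥ := hN
    _ ≤ ⊥ := le_rfl

theorem main {S X : Scheme.{u}} [IsNoetherian S] (f : X ⟶ S)
    [LocallyOfFiniteType f] [QuasiCompact f]
    {D : Type u} [Preorder D] [IsDirected D (fun a b => a ≤ b)] [Nonempty D]
    (Xi : D → Scheme.{u}) (x : ∀ i, Xi i ⟶ X) (hx : ∀ i, IsImmersion (x i))
    (hmono : ∀ i j, i ≤ j → ∃ t : Xi i ⟶ Xi j, t ≫ x j = x i)
    (h : ∀ (s : S) (n : ℕ), ∃ i : D,
      IsIso (pullback.snd (x i) (pullback.fst f
        (Spec.map (CommRingCat.ofHom (Ideal.Quotient.mk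
          (IsLocalRing.maximalIdeal (S.presheaf.stalk s) ^ (n + 1)))) ≫ S.fromSpecStalk s)))) :
    ∃ i : D, IsIso (x i) := by
  have hXN : IsNoetherian X := by
    have : IsLocallyNoetherian X := LocallyOfFiniteType.isLocallyNoetherian f
    have : CompactSpace X := QuasiCompact.compactSpace_of_compactSpace f
    exact {}
  have hWm : ∀ i j, i ≤ j → W (x i) ≤ W (x j) := fun i j hij => by
    obtain ⟨t, ht⟩ := hmono i j hij
    exact W_le _ _ t ht
  -- a maximal `W`
  obtain ⟨i0, hi0⟩ : ∃ i0 : D, ∀ j, W (x j) ≤ W (x i0) := by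
    obtain ⟨V, ⟨i, rfl⟩, hmax⟩ := WellFounded.has_min (r := fun (a b : X.Opens) => a > b)
      (wellFounded_gt) (Set.range fun i => W (x i)) (Set.range_nonempty _)
    refine ⟨i, fun j => ?_⟩
    obtain ⟨k, hik, hjk⟩ := exists_ge_ge i j
    have h1 := hmax _ ⟨k, rfl⟩
    have h2 : W (x i) = W (x k) := ((hWm i k hik).lt_or_eq).resolve_left h1
    rw [h2]
    exact hWm j k hjk
  refine ⟨i0, ?_⟩
  have := hx i0
  refine isIso_of_W (x i0) ?_
  by_contra hne
  have hCne : ((W (x i0) : Set X)ᶜ).Nonempty := by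
    rw [Set.nonempty_compl]
    intro hcon
    exact hne (Opens.ext hcon)
  obtain ⟨p, hpC, hp⟩ := exists_min _ (W (x i0)).isOpen.isClosed_compl hCne
  let B := X.presheaf.stalk p
  -- lifts over the infinitesimal fibres
  have hinf : ∀ n : ℕ, ∃ i : D, ∀ (R : CommRingCat.{u}) (φ : X.presheaf.stalk p ⟶ R),
      ((maximalIdeal (S.presheaf.stalk (f p))) ^ (n + 1)).map (f.stalkMap p).hom ≤
        RingHom.ker φ.hom →
      ∃ l : Spec R ⟶ Xi i, l ≫ x i = Spec.map φ ≫ X.fromSpecStalk p := by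
    intro n
    obtain ⟨i, hi⟩ := h (f p) n
    refine ⟨i, fun R φ hφ => ?_⟩
    have hker : ∀ a ∈ (maximalIdeal (S.presheaf.stalk (f p))) ^ (n + 1),
        (f.stalkMap p ≫ φ).hom a = 0 := fun a ha =>
      hφ (Ideal.mem_map_of_mem _ ha)
    let ψ : CommRingCat.of (S.presheaf.stalk (f p) ⧸
        (maximalIdeal (S.presheaf.stalk (f p))) ^ (n + 1)) ⟶ R :=
      CommRingCat.ofHom (Ideal.Quotient.lift _ (f.stalkMap p ≫ φ).hom hker)
    have hψ : CommRingCat.ofHom (Ideal.Quotient.mk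
        ((maximalIdeal (S.presheaf.stalk (f p))) ^ (n + 1))) ≫ ψ = f.stalkMap p ≫ φ := by
      ext a; simp [ψ]
    let m : Spec R ⟶ pullback f (Spec.map (CommRingCat.ofHom (Ideal.Quotient.mk
          (IsLocalRing.maximalIdeal (S.presheaf.stalk (f p)) ^ (n + 1)))) ≫
          S.fromSpecStalk (f p)) :=
      pullback.lift (Spec.map φ ≫ X.fromSpecStalk p) (Spec.map ψ) (by
        rw [Category.assoc, ← Scheme.SpecMap_stalkMap_fromSpecStalk, ← Category.assoc,
          ← Category.assoc, ← Spec.map_comp, ← Spec.map_comp, hψ])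
    refine ⟨m ≫ inv (pullback.snd (x i) (pullback.fst f
        (Spec.map (CommRingCat.ofHom (Ideal.Quotient.mk
          (IsLocalRing.maximalIdeal (S.presheaf.stalk (f p)) ^ (n + 1)))) ≫
            S.fromSpecStalk (f p)))) ≫ pullback.fst _ _, ?_⟩
    rw [Category.assoc, Category.assoc, pullback.condition, IsIso.inv_hom_id_assoc]
    exact pullback.lift_fst _ _ _
  have hmle : ∀ n : ℕ, ((maximalIdeal (S.presheaf.stalk (f p))) ^ (n + 1)).map
      (f.stalkMap p).hom ≤ maximalIdeal (X.presheaf.stalk p) ^ (n + 1) := by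
    intro n
    rw [Ideal.map_pow]
    refine Ideal.pow_right_mono ?_ _
    rw [Ideal.map_le_iff_le_comap]
    intro a ha
    rw [Ideal.mem_comap, IsLocalRing.mem_maximalIdeal, mem_nonunits_iff]
    intro hu
    exact ha (isUnit_of_map_unit (f.stalkMap p).hom a hu)
  have hlift_mono : ∀ i j, i ≤ j → ∀ (R : CommRingCat.{u}) (φ : X.presheaf.stalk p ⟶ R),
      (∃ l : Spec R ⟶ Xi i, l ≫ x i = Spec.map φ ≫ X.fromSpecStalk p) →
      (∃ l : Spec R ⟶ Xi j, l ≫ x j = Spec.map φ ≫ X.fromSpecStalk p) := by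
    rintro i j hij R φ ⟨l, hl⟩
    obtain ⟨t, ht⟩ := hmono i j hij
    exact ⟨l ≫ t, by rw [Category.assoc, ht, hl]⟩
  -- `p` is in the range of some `x i`
  obtain ⟨ia, hia⟩ : ∃ i, p ∈ Set.range (x i) := by
    obtain ⟨i, hi⟩ := hinf 0
    obtain ⟨l, hl⟩ := hi _ (X.residue p) (by
      refine (hmle 0).trans ?_
      rw [zero_add, pow_one]
      exact (IsLocalRing.ker_residue (R := X.presheaf.stalk p)).ge)
    refine ⟨i, l (closedPoint (X.residueField p)), ?_⟩
    rw [← Scheme.Hom.comp_apply, hl, Scheme.Hom.comp_apply]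
    have hloc : IsLocalHom (X.residue p).hom :=
      inferInstanceAs (IsLocalHom (IsLocalRing.residue (X.presheaf.stalk p)))
    have h1 : Spec.map (X.residue p) (closedPoint (X.residueField p)) =
        closedPoint (X.presheaf.stalk p) := Spec_closedPoint
    rw [h1, Scheme.fromSpecStalk_closedPoint]
  obtain ⟨i1, hi01, hia1⟩ := exists_ge_ge i0 ia
  have hrange : ∀ j, ia ≤ j → p ∈ Set.range (x j) := by
    intro j hj
    obtain ⟨t, ht⟩ := hmono ia j hj
    obtain ⟨y, hy⟩ := hia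
    exact ⟨t y, by rw [← Scheme.Hom.comp_apply, ht, hy]⟩
  have hx1 := hx i1
  obtain ⟨J1, hJ1⟩ := exists_ideal (x i1) p (hrange i1 hia1)
  -- `J1` vanishes at the non maximal primes
  have hJ1loc : ∀ (q : Ideal (X.presheaf.stalk p)) [q.IsPrime],
      q ≠ maximalIdeal (X.presheaf.stalk p) →
      J1 ≤ RingHom.ker (algebraMap (X.presheaf.stalk p) (Localization.AtPrime q)) := by
    intro q hq hqne
    let φ : X.presheaf.stalk p ⟶ CommRingCat.of (Localization.AtPrime q) :=
      CommRingCat.ofHom (algebraMap (X.presheaf.stalk p) (Localization.AtPrime q))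
    refine (hJ1 (CommRingCat.of (Localization.AtPrime q)) φ).mp ?_
    let g : Spec (CommRingCat.of (Localization.AtPrime q)) ⟶ X := Spec.map φ ≫ X.fromSpecStalk p
    let q' : X := g (closedPoint (Localization.AtPrime q))
    have hφq : Spec.map φ (closedPoint (Localization.AtPrime q)) = (⟨q, hq⟩ : PrimeSpectrum _) :=
      PrimeSpectrum.ext (Localization.AtPrime.under_maximalIdeal (I := q))
    have hq'p : q' ⤳ p := by
      have h1 := (IsLocalRing.specializes_closedPoint (R := X.presheaf.stalk p)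
        (Spec.map φ (closedPoint (Localization.AtPrime q)))).map (X.fromSpecStalk p).continuous
      rw [Scheme.fromSpecStalk_closedPoint] at h1
      exact h1
    have hq'ne : q' ≠ p := by
      intro heq
      apply hqne
      have h1 : X.fromSpecStalk p (Spec.map φ (closedPoint (Localization.AtPrime q))) =
          X.fromSpecStalk p (closedPoint (X.presheaf.stalk p)) := by
        rw [Scheme.fromSpecStalk_closedPoint]; exact heq
      have h2 := (X.fromSpecStalk p).isEmbedding.injective h1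
      rw [hφq] at h2
      exact congrArg PrimeSpectrum.asIdeal h2
    have hq'W : q' ∈ W (x i1) := by
      have h1 := hp q' hq'p hq'ne
      rw [Set.notMem_compl_iff] at h1
      exact hWm i0 i1 hi01 h1
    obtain ⟨U, hqU, s, hs⟩ := (mem_W _ _).mp hq'W
    have hgU : g ⁻¹ᵁ U = ⊤ := Scheme.preimage_eq_top_of_closedPoint_mem g hqU
    have hgr : Set.range g ⊆ Set.range U.ι := by
      rw [Scheme.Opens.range_ι]
      rintro _ ⟨y, rfl⟩
      have : y ∈ g ⁻¹ᵁ U := by rw [hgU]; trivial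
      exact this
    refine ⟨IsOpenImmersion.lift U.ι g hgr ≫ s, ?_⟩
    rw [Category.assoc, hs, IsOpenImmersion.lift_fac]
  have hkm : ∀ J : Ideal (X.presheaf.stalk p), RingHom.ker
      (CommRingCat.ofHom (Ideal.Quotient.mk J)).hom = J := fun J => Ideal.mk_ker
  obtain ⟨N, hN⟩ := exists_pow_inf_eq_bot J1 hJ1loc
  obtain ⟨i2, hi2⟩ := hinf N
  obtain ⟨i3, hi13, hi23⟩ := exists_ge_ge i1 i2
  have hx3 := hx i3
  obtain ⟨J3, hJ3⟩ := exists_ideal (x i3) p (hrange i3 (hia1.trans hi13))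
  have h31 : J3 ≤ J1 := by
    have h1 := (hJ1 (CommRingCat.of (X.presheaf.stalk p ⧸ J1))
      (CommRingCat.ofHom (Ideal.Quotient.mk J1))).mpr (hkm J1).ge
    exact ((hJ3 _ _).mp (hlift_mono i1 i3 hi13 _ _ h1)).trans (hkm J1).le
  have h3N : J3 ≤ maximalIdeal (X.presheaf.stalk p) ^ N := by
    have h1 := hi2 (CommRingCat.of (X.presheaf.stalk p ⧸
        maximalIdeal (X.presheaf.stalk p) ^ N))
      (CommRingCat.ofHom (Ideal.Quotient.mk _))
      (((hmle N).trans (Ideal.pow_le_pow_right (Nat.le_succ N))).trans (hkm _).ge)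
    exact ((hJ3 _ _).mp (hlift_mono i2 i3 hi23 _ _ h1)).trans (hkm _).le
  have h3 : J3 = ⊥ := by
    rw [eq_bot_iff, ← hN]
    exact le_inf h31 h3N
  obtain ⟨l, hl⟩ := (hJ3 (X.presheaf.stalk p) (𝟙 _)).mpr (by rw [h3]; exact bot_le)
  rw [Spec.map_id, Category.id_comp] at hl
  obtain ⟨U, hpU, s, -, hs⟩ := spread_out_of_isGermInjective' (𝟙 X) (x i3) (x := p) l
    (by rw [hl, Category.comp_id])
  rw [Category.comp_id] at hs
  exact hpC (hi0 i3 ((mem_W _ _).mpr ⟨U, hpU, s, hs⟩))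

end K10.FiltSub
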