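import Groth.Agent.SGA3x.K10.URZAff
import Groth.Agent.Sga3.H829.Central
import Groth.Agent.Sga3B.BcNat
import Groth.Agent.Sga3.H786.TCMain
import Groth.Agent.AlgGrp.K411.WordDens

/-!
# Nilpotent and general groups of unipotent rank zero
-/

set_option autoImplicit false
universe u
open CategoryTheory MonoidalCategory CartesianMonoidalCategory MonObj GrpObj AlgebraicGeometry Limits

namespace K10.URZNil

open Groth.Agent Groth.Agent.Sga3B Groth.Agent.Sga3B.MaxTorBc636

variable {S : Scheme.{u}}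

/-- A group whose points commute is commutative. -/
theorem isCommMonObj_of_points (U : Over S) [GrpObj U] (h : ∀ (T : Over S) (a b : T ⟶ U), a * b = b * a) :
    IsCommMonObj U := by
  constructor
  have h1 := h _ (fst U U) (snd U U)
  rw [Hom.mul_def, Hom.mul_def] at h1
  have e1 : lift (fst U U) (snd U U) = 𝟙 (U ⊗ U) := by ext <;> simp
  have e2 : lift (snd U U) (fst U U) = (β_ U U).hom := by ext <;> simp
  rw [e1, e2, Category.id_comp] at h1
  exact h1.symm

/-- A monomorphism with a section is an isomorphism, and then a torus subgroup is everything. -/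
theorem isTorus_of_section {G T : Over S} [GrpObj G] [GrpObj T] (i : T ⟶ G) [IsMonHom i] [Mono i]
    (hT : Red.IsTorus T) (h : ∃ t : G ⟶ T, t ≫ i = 𝟙 G) : Red.IsTorus G := by
  obtain ⟨t, ht⟩ := h
  have h1 : i ≫ t = 𝟙 T := by rw [← cancel_mono i, Category.assoc, ht, Category.comp_id, Category.id_comp]
  let e : T ≅ G := ⟨i, t, h1, ht⟩
  have : IsMonHom e.hom := inferInstanceAs (IsMonHom i)
  exact TorusBc.isTorus_of_iso (Grp.mkIso' e) hT

theorem connectedSpace_of_pt {F : Type u} [Field F] {X : Scheme.{u}} (f : X ⟶ Spec (CommRingCat.of F))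
    (h : ∀ s, _root_.IsConnected (f ⁻¹' {s})) : ConnectedSpace X := by
  let p : Spec (CommRingCat.of F) := IsLocalRing.closedPoint F
  have h1 : _root_.IsConnected (f ⁻¹' {p}) := h p
  have h2 : (f ⁻¹' {p} : Set X) = Set.univ := Set.eq_univ_of_forall fun x =>
    (Subsingleton.elim (α := PrimeSpectrum F) (f x) p : f x = p)
  rw [h2] at h1
  exact connectedSpace_iff_univ.mpr h1

/-- The induced isomorphism of groups of points. -/
def ptsCongr {G H : Over S} [GrpObj G] [GrpObj H] (e : G ≅ H) [IsMonHom e.hom] (X : Over S) : (X ⟶ G) ≃* (X ⟶ H) where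
  toFun x := x ≫ e.hom
  invFun x := x ≫ e.inv
  left_inv x := by simp
  right_inv x := by simp
  map_mul' x y := MonObj.mul_comp x y e.hom

/-- Nilpotency is invariant under isomorphism. -/
theorem isNilpotentGrp_of_iso {G H : Over S} [GrpObj G] [GrpObj H] (e : G ≅ H) [IsMonHom e.hom]
    (h : AGF.IsNilpotentGrp G) : AGF.IsNilpotentGrp H := by
  obtain ⟨n, hn⟩ := h
  refine ⟨n, fun X => ?_⟩
  have h1 := Subgroup.comap_upperCentralSeries (ptsCongr e X).symm n
  rw [hn X] at h1
  rw [← h1]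
  rfl

/-- **Geometric fibres of nilpotent groups of unipotent rank zero are tori.** -/
theorem isTorus_geomFibre (G : Over S) [GrpObj G] [Smooth G.hom]
    (hconn : ∀ s : S, _root_.IsConnected (G.hom.base ⁻¹' {s}))
    (hnil : ∀ s : S, AGF.IsNilpotentGrp (Red.bc (S.fromSpecResidueField s) G))
    (hu : SGA3x.UnipotentRankZero G) (s : S) : Red.IsTorus (Red.geomFibre s G) := by
  have h3 : Smooth (Red.geomFibre s G).hom := inferInstanceAs (Smooth (pullback.snd _ _))
  obtain ⟨hsep, hqc⟩ := URZ.sep_qc G hconn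
  obtain ⟨T, _, i, hi⟩ := Sga3.H784.NAMain.exists_isMaximalTorus (Red.geomFibre s G)
  have h1 : IsMonHom i := hi.1
  have h2 : Mono i := hi.2.1
  have haff := URZAff.isAffineHom_geomFibre G hconn hu s
  have haff' : IsAffine (Red.geomFibre s G).left := isAffine_of_isAffineHom (Red.geomFibre s G).hom
  have hcs : ConnectedSpace (Red.geomFibre s G).left :=
    connectedSpace_of_pt (Red.geomFibre s G).hom (Sga3.H819.CentKer.isConnected_bc (Red.geomPt s) G hconn)
  have hn : AGF.IsNilpotentGrp (Red.geomFibre s G) := by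
    let g : Spec (CommRingCat.of (AlgebraicClosure (S.residueField s))) ⟶ Spec (S.residueField s) :=
      Spec.map (CommRingCat.ofHom (algebraMap (S.residueField s) (AlgebraicClosure (S.residueField s))))
    have h4 := AlgGrp.K411.WordDens.isNilpotentGrp_bc g (Red.bc (S.fromSpecResidueField s) G) (hnil s)
    let e : Grp.mk (Red.geomFibre s G) ≅ Grp.mk (Red.bc g (Red.bc (S.fromSpecResidueField s) G)) :=
      BcIso.bcCompIso g (S.fromSpecResidueField s) G
    have he : IsMonHom (RedIso.und e).symm.hom := e.inv.hom.isMonHom_hom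
    exact isNilpotentGrp_of_iso (RedIso.und e).symm h4
  obtain ⟨n, hn⟩ := hn
  have hcen := Sga3.H829.Central.commute (Red.geomFibre s G)
    ⟨n, fun X => Subgroup.lowerCentralSeries_eq_bot_iff_upperCentralSeries_eq_top.mpr (hn X)⟩ i
    (K21.MultLoc.isMultTypeFT_of_isTorus hi.2.2.1)
  refine isTorus_of_section i hi.2.2.1 ?_
  exact ((hu s T i hi).2.2 _ (𝟙 _)).mpr (fun X' x h => (hcen X' h (x ≫ 𝟙 _)).symm)

/-- **A smooth group with connected nilpotent fibres and unipotent rank zero is a torus.** -/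
theorem isTorus (G : Over S) [GrpObj G] [Smooth G.hom]
    (hconn : ∀ s : S, _root_.IsConnected (G.hom.base ⁻¹' {s}))
    (hnil : ∀ s : S, AGF.IsNilpotentGrp (Red.bc (S.fromSpecResidueField s) G))
    (hu : SGA3x.UnipotentRankZero G) : Red.IsTorus G := by
  obtain ⟨hsep, hqc⟩ := URZ.sep_qc G hconn
  exact (Sga3.H786.TC.isTorus G (isTorus_geomFibre G hconn hnil hu)).2

theorem isCommMonObj (G : Over S) [GrpObj G] [Smooth G.hom]
    (hconn : ∀ s : S, _root_.IsConnected (G.hom.base ⁻¹' {s}))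
    (hnil : ∀ s : S, AGF.IsNilpotentGrp (Red.bc (S.fromSpecResidueField s) G))
    (hu : SGA3x.UnipotentRankZero G) : IsCommMonObj G :=
  isCommMonObj_of_points G (MaxTorNear900.mul_comm_of_isTorus (isTorus G hconn hnil hu))

section maxTorus

variable {G T Z C : Over S} [GrpObj G] [GrpObj T] [GrpObj Z] [GrpObj C]

/-- Maximal tori of groups of unipotent rank zero are self-centralizing. -/
theorem selfC [Smooth G.hom] [IsSeparated G.hom] (hu : SGA3x.UnipotentRankZero G)
    (i : T ⟶ G) (hi : Red.IsMaximalTorus i) : SelfC i := by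
  have h1 : IsMonHom i := hi.1
  have h2 : Mono i := hi.2.1
  exact Sga3.H804.SelfCFib.selfC_of_geomFibre i hi.2.2.1 (fun s X g hg =>
    ((hu s _ _ (AlgBc.isMaximalTorus_bc (Red.geomPt s) hi)).2.2 X g).mpr hg)

/-- The centralizer of a self-centralizing commutative subgroup is commutative. -/
theorem comm_centralizer {i : T ⟶ G} [IsMonHom i] (hs : SelfC i) (hT : Red.IsTorus T) {c : C ⟶ G}
    (hC : Red.IsCentralizerOf i c) (X : Over S) (a b : X ⟶ C) : a * b = b * a := by
  have h1 : IsMonHom c := hC.1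
  have h2 : Mono c := hC.2.1
  obtain ⟨a', ha⟩ := hs X (a ≫ c) (fun X' x t => (hC.2.2 X (a ≫ c)).mp ⟨a, rfl⟩ X' x t)
  obtain ⟨b', hb⟩ := hs X (b ≫ c) (fun X' x t => (hC.2.2 X (b ≫ c)).mp ⟨b, rfl⟩ X' x t)
  rw [← cancel_mono c, MonObj.mul_comp, MonObj.mul_comp, ← ha, ← hb, ← MonObj.mul_comp, ← MonObj.mul_comp,
    MaxTorNear900.mul_comm_of_isTorus hT]

/-- The intersection of the centre with a self-centralizing torus is the centre. -/
theorem isMultTypeFT_inter {i : T ⟶ G} [IsMonHom i] [Mono i] (hs : SelfC i) {j : Z ⟶ G} (hZ : Red.IsCentre j)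
    (hZm : SGA3x.IsMultTypeFT Z) {M : Over S} [GrpObj M] (a : M ⟶ Z) (b : M ⟶ T) [IsMonHom a]
    (hp : IsPullback a b j i) : SGA3x.IsMultTypeFT M := by
  obtain ⟨k, hk⟩ := hs Z j (fun X' x t => (hZ.2.2 Z j).mp ⟨𝟙 _, Category.id_comp _⟩ X' x (t ≫ i))
  let l : Z ⟶ M := hp.lift (𝟙 Z) k (by rw [Category.id_comp, hk])
  have hl : l ≫ a = 𝟙 Z := hp.lift_fst _ _ _
  have ha : Mono a := by
    have := hp.flip
    exact ⟨fun u v h => hp.hom_ext h (by
      rw [← cancel_mono i, Category.assoc, Category.assoc, ← hp.w, reassoc_of% h])⟩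
  have hal : a ≫ l = 𝟙 M := by rw [← cancel_mono a, Category.assoc, hl, Category.comp_id, Category.id_comp]
  let e : M ≅ Z := ⟨a, l, hal, hl⟩
  have he : IsMonHom e.hom := inferInstanceAs (IsMonHom a)
  exact MTLoc.of_iso (Grp.mkIso' e).symm hZm

end maxTorus

end K10.URZNil
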