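import Groth.Agent.SGA3x.K10.URZ
import Groth.Agent.Sga3.H804.QaMain
import Groth.Agent.S4094
import Groth.Agent.S3036
import Groth.Agent.Sga3.H784.NAMain

/-!
# Groups of unipotent rank zero (Cartan subgroups = maximal tori) have affine fibres

* `isAffine_of_selfC`: over a field, a smooth connected group with a self-centralizing torus is affine;
* `affine_fibres`.
-/

set_option autoImplicit false
universe u
open CategoryTheory MonoidalCategory CartesianMonoidalCategory MonObj GrpObj AlgebraicGeometry Limits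

namespace K10.URZAff

open Groth.Agent Groth.Agent.Sga3B Groth.Agent.Sga3B.MaxTorBc636 Groth.Agent.Sga7.H760.KerBc
open Groth.Agent.Sga3.H804 Groth.Agent.Sga3.H804.QaMain

/-- An extension of a subgroup of an affine group by an affine kernel is affine (over a field). -/
theorem isAffine_of_quotient {F : Type u} [Field F] {G H Q : Over (Spec (CommRingCat.of F))} [GrpObj G] [GrpObj H]
    [GrpObj Q] [QuasiCompact G.hom] [IsAffineHom H.hom] [LocallyOfFiniteType H.hom]
    (p : G ⟶ Q) (j : Q ⟶ H) [IsMonHom p] [IsMonHom j] [Mono j]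
    [Surjective p.left] [Flat p.left] [LocallyOfFinitePresentation p.left]
    [LocallyOfFinitePresentation Q.hom] {K : Over (Spec (CommRingCat.of F))} {k : K ⟶ G}
    (hk : AlgGrp.IsKernel k p) (hK : IsAffineHom K.hom) : IsAffineHom G.hom := by
  -- `p` is affine
  have h0 : IsAffineHom (pullback.snd p.left (η[Q] : 𝟙_ (Over _) ⟶ Q).left) := by
    obtain ⟨e, -⟩ := exists_iso (isKernel_kerι p) hk
    have h1 : (Sga3B.KerGrp.kerObj p).hom = e.hom.left ≫ K.hom := (Over.w _).symm
    change IsAffineHom (Sga3B.KerGrp.kerObj p).hom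
    rw [h1]
    infer_instance
  have hp : IsAffineHom p.left := by
    obtain ⟨d, hd⟩ := Sga3C.KerSquare.isPullback_fst_ker p
    have h1 : IsAffineHom (pullback.fst p.left p.left) :=
      MorphismProperty.of_isPullback (P := @IsAffineHom) hd.flip h0
    exact MorphismProperty.of_pullback_fst_of_descendsAlong (P := @IsAffineHom)
      (Q := @Surjective ⊓ @Flat ⊓ @LocallyOfFinitePresentation) (f := p.left) (g := p.left)
      ⟨⟨inferInstance, inferInstance⟩, inferInstance⟩ h1
  have hjq : QuasiCompact j.left := by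
    have hQc : QuasiCompact Q.hom := by
      have h1 : QuasiCompact (p.left ≫ Q.hom) := by rw [Over.w]; infer_instance
      exact quasiCompact_of_surjective p.left Q.hom
    have : QuasiCompact (j.left ≫ H.hom) := by rw [Over.w]; infer_instance
    exact QuasiCompact.of_comp j.left H.hom
  have hjc : IsClosedImmersion j.left := S3036.result F Q H j
  have hQ : IsAffineHom Q.hom := by
    rw [← Over.w j]
    infer_instance
  rw [← Over.w p]
  infer_instance

/-- Over a field: a group with a representation with central kernel and a self-centralizing torus is affine. -/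
theorem isAffineHom_of_rep {F : Type u} [Field F] {G T H : Over (Spec (CommRingCat.of F))} [GrpObj G] [GrpObj T]
    [GrpObj H] [LocallyOfFinitePresentation G.hom] [QuasiCompact G.hom] [IsAffineHom H.hom]
    [LocallyOfFinitePresentation H.hom] (i : T ⟶ G) (hT : Red.IsTorus T) [IsMonHom i] [Mono i]
    (hc : SelfC i) (ρ : G ⟶ H) [IsMonHom ρ] (hρ : ∀ (X : Over _) (x y : X ⟶ G), x ≫ ρ = 1 → x * y = y * x) :
    IsAffineHom G.hom := by
  obtain ⟨z, hz⟩ := hc _ (Sga3B.KerGrp.kerι ρ) (fun X' x h => by
    refine hρ X' _ _ ?_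
    rw [Category.assoc, Sga3B.KerGrp.kerι_comp, MonObj.comp_one])
  have hzk : AlgGrp.IsKernel z (i ≫ ρ) := by
    rw [isKernel_iff]
    refine ⟨?_, fun X g hg => ?_⟩
    · rw [← Category.assoc, hz, Sga3B.KerGrp.kerι_comp]
    · obtain ⟨y, hy⟩ := Sga3B.KerGrp.exists_lift ρ (g ≫ i) (by rw [Category.assoc, hg])
      refine ⟨y, ?_, fun y' hy' => ?_⟩
      · change y ≫ z = g
        rw [← cancel_mono i, Category.assoc, hz, hy]
      · have h1 : y' ≫ z = g := hy'
        rw [← cancel_mono (Sga3B.KerGrp.kerι ρ), hy, ← hz, ← Category.assoc, h1]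
  have hKf : Flat (Sga3B.KerGrp.kerObj ρ).hom := QaKer.flat_ker hT (i ≫ ρ) hzk
  have hTa : IsAffineHom T.hom := Sga3B.TorusAlgClosed.isAffineHom_of_isTorus hT
  have hza : IsAffineHom z.left := by
    obtain ⟨e, he⟩ := exists_iso hzk (isKernel_kerι (i ≫ ρ))
    have h1 : z.left = e.hom.left ≫ (Sga3B.KerGrp.kerι (i ≫ ρ)).left := by
      rw [← he]; rfl
    rw [h1]
    infer_instance
  have hKa : IsAffineHom (Sga3B.KerGrp.kerObj ρ).hom := by
    rw [← Over.w z]
    infer_instance
  obtain ⟨e, he⟩ := exists_iso (isKernel_kerι ρ) (QaKer.isKernel_pullback ρ)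
  have hKf' : Flat (pullback ρ η[H]).hom := by
    have h1 : (pullback ρ η[H]).hom = e.inv.left ≫ (Sga3B.KerGrp.kerObj ρ).hom := (Over.w _).symm
    rw [h1]
    infer_instance
  have hKa' : IsAffineHom (pullback ρ η[H]).hom := by
    have h1 : (pullback ρ η[H]).hom = e.inv.left ≫ (Sga3B.KerGrp.kerObj ρ).hom := (Over.w _).symm
    rw [h1]
    infer_instance
  obtain ⟨Q, _, p, j, hp, hj, hpj, hps, hpf, hpl, hjm, hQl, hk⟩ := S4094.result _ G H ρ hKf'
  exact isAffine_of_quotient p j hk hKa'

/-- Representations with central kernel at a field-valued point of the base. -/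
theorem exists_rep_pt {S : Scheme.{u}} (G : Over S) [GrpObj G] [Smooth G.hom]
    (hconn : ∀ s : S, _root_.IsConnected (G.hom.base ⁻¹' {s})) {F : Type u} [Field F]
    (t : Spec (CommRingCat.of F) ⟶ S) :
    ∃ (m : Type u) (_ : Fintype m) (_ : DecidableEq m)
      (ρ : Red.bc t G ⟶ Sga3B.GLn.GLS m (Spec (CommRingCat.of F))), IsMonHom ρ ∧
        ∀ (X : Over (Spec (CommRingCat.of F))) (x y : X ⟶ Red.bc t G), x ≫ ρ = 1 → x * y = y * x := by
  obtain ⟨hsep, hqc⟩ := URZ.sep_qc G hconn
  obtain ⟨U, hsU, -, m, i1, i2, ρ, hρ, hcen⟩ := CenRep.exists_rep_center G hconn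
    (t (IsLocalRing.closedPoint F))
  have hr : Set.range t ⊆ Set.range U.ι := by
    rw [Scheme.Opens.range_ι]
    rintro _ ⟨x, rfl⟩
    rw [Subsingleton.elim x (IsLocalRing.closedPoint F)]
    exact hsU
  obtain ⟨ρ', h1, h2⟩ := Sga3.H819.CentKer.transfer t (IsOpenImmersion.lift U.ι t hr) U.ι
    (IsOpenImmersion.lift_fac _ _ _) U.ι (IsOpenImmersion.lift U.ι t hr) U.ι rfl G G (Iso.refl _) ρ
    hcen.central
  exact ⟨m, i1, i2, ρ', h1, h2⟩

/-- The fibre at a field-valued point is affine if it has a self-centralizing torus. -/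
theorem isAffineHom_bc_of_selfC {S : Scheme.{u}} (G : Over S) [GrpObj G] [Smooth G.hom]
    (hconn : ∀ s : S, _root_.IsConnected (G.hom.base ⁻¹' {s})) {F : Type u} [Field F]
    (t : Spec (CommRingCat.of F) ⟶ S) {T : Over (Spec (CommRingCat.of F))} [GrpObj T]
    (i : T ⟶ Red.bc t G) (hT : Red.IsTorus T) [IsMonHom i] [Mono i] (hc : SelfC i) :
    IsAffineHom (Red.bc t G).hom := by
  obtain ⟨hsep, hqc⟩ := URZ.sep_qc G hconn
  obtain ⟨m, _, _, ρ, hρ, hcen⟩ := exists_rep_pt G hconn t
  have h3 : Smooth (Red.bc t G).hom := inferInstanceAs (Smooth (pullback.snd _ _))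
  have h4 : QuasiCompact (Red.bc t G).hom := inferInstanceAs (QuasiCompact (pullback.snd _ _))
  exact isAffineHom_of_rep i hT hc ρ hcen

/-- The geometric fibres of a smooth group with connected fibres and unipotent rank zero are affine. -/
theorem isAffineHom_geomFibre {S : Scheme.{u}} (G : Over S) [GrpObj G] [Smooth G.hom]
    (hconn : ∀ s : S, _root_.IsConnected (G.hom.base ⁻¹' {s})) (hu : SGA3x.UnipotentRankZero G) (s : S) :
    IsAffineHom (Red.geomFibre s G).hom := by
  have h3 : Smooth (Red.geomFibre s G).hom := inferInstanceAs (Smooth (pullback.snd _ _))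
  obtain ⟨T, _, i, hi⟩ := Sga3.H784.NAMain.exists_isMaximalTorus (Red.geomFibre s G)
  have h1 : IsMonHom i := hi.1
  have h2 : Mono i := hi.2.1
  exact isAffineHom_bc_of_selfC G hconn (Red.geomPt s) i hi.2.2.1
    (fun X g hg => ((hu s T i hi).2.2 X g).mpr hg)

/-- The fibres of a smooth group with connected fibres and unipotent rank zero are affine. -/
theorem affine_fibres {S : Scheme.{u}} (G : Over S) [GrpObj G] [Smooth G.hom]
    (hconn : ∀ s : S, _root_.IsConnected (G.hom.base ⁻¹' {s})) (hu : SGA3x.UnipotentRankZero G) (s : S) :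
    IsAffine (pullback G.hom (S.fromSpecResidueField s)) := by
  let g : Spec (CommRingCat.of (AlgebraicClosure (S.residueField s))) ⟶ Spec (S.residueField s) :=
    Spec.map (CommRingCat.ofHom (algebraMap (S.residueField s) (AlgebraicClosure (S.residueField s))))
  have h1 : IsAffineHom (pullback.snd G.hom (g ≫ S.fromSpecResidueField s)) :=
    isAffineHom_geomFibre G hconn hu s
  have h2 : IsAffineHom (pullback.snd (pullback.snd G.hom (S.fromSpecResidueField s)) g) := by
    rw [← pullbackLeftPullbackSndIso_hom_snd]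
    infer_instance
  have hg1 : Surjective g := by
    constructor
    intro x
    exact ⟨IsLocalRing.closedPoint _, Subsingleton.elim _ _⟩
  have hg2 : Flat g := by
    rw [HasRingHomProperty.Spec_iff (P := @Flat)]
    simp only [CommRingCat.hom_ofHom]
    exact RingHom.flat_algebraMap_iff.mpr inferInstance
  have h3 : IsAffineHom (pullback.snd G.hom (S.fromSpecResidueField s)) :=
    MorphismProperty.of_pullback_snd_of_descendsAlong (P := @IsAffineHom)
      (Q := @Surjective ⊓ @Flat ⊓ @QuasiCompact) (f := pullback.snd G.hom (S.fromSpecResidueField s))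
      (g := g) ⟨⟨hg1, hg2⟩, inferInstance⟩ h2
  exact isAffine_of_isAffineHom (pullback.snd G.hom (S.fromSpecResidueField s))

end K10.URZAff
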