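import Groth.Agent.SGA3x.K10.CenRep
import Groth.Agent.SGA3x.K10.MTKer
import Groth.Agent.SGA3x.K21.MultLoc
import Groth.Agent.Sga3.H832.SelfCent
import Groth.Agent.Sga3.H804.SelfCFib
import Groth.Agent.Sga3B.SplitBc264
import Groth.Agent.Sga3C.GrpSep
import Groth.Agent.Sga3.H804.FinTC
import Groth.Agent.Sga3.H804.MtMain
import Groth.Agent.Sga3.H804.DimOne

/-!
# Groups of unipotent rank zero

* `selfC`: maximal tori (after any base change) are self-centralizing;
* `centre_isMultTypeFT_of_selfC`: the centre is of multiplicative type if there is a self-centralizing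
  subgroup of multiplicative type.
-/

set_option autoImplicit false
universe u
open CategoryTheory MonoidalCategory CartesianMonoidalCategory MonObj GrpObj AlgebraicGeometry Limits

namespace K10.URZ

open Groth.Agent Groth.Agent.Sga3B Groth.Agent.Sga3B.MaxTorBc636

variable {S S' : Scheme.{u}}

/-- A smooth group scheme with connected fibres is separated and quasi-compact. -/
theorem sep_qc (G : Over S) [GrpObj G] [Smooth G.hom]
    (hconn : ∀ s : S, _root_.IsConnected (G.hom.base ⁻¹' {s})) : IsSeparated G.hom ∧ QuasiCompact G.hom := by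
  have hgi : GeometricallyIrreducible G.hom := by
    have : GrpObj (Over.mk G.hom) := ‹GrpObj G›
    exact Sga3C.GrpIrr.geometricallyIrreducible_of_connected_fibres G.hom hconn
  exact ⟨Sga3C.GrpSep.isSeparated G, Sga3C.GrpSep.quasiCompact G⟩

/-- Maximal tori of base changes of groups of unipotent rank zero are self-centralizing. -/
theorem selfC (f : S' ⟶ S) {G : Over S} [GrpObj G] [Smooth G.hom] [IsSeparated G.hom]
    (hu : SGA3x.UnipotentRankZero G) {T : Over S'} [GrpObj T] {i : T ⟶ Red.bc f G}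
    (hi : Red.IsMaximalTorus i) : SelfC i := by
  have h1 : IsMonHom i := hi.1
  have h2 : Mono i := hi.2.1
  have h3 : Smooth (Red.bc f G).hom := inferInstanceAs (Smooth (pullback.snd _ _))
  have h4 : IsSeparated (Red.bc f G).hom := inferInstanceAs (IsSeparated (pullback.snd _ _))
  exact Sga3.H804.SelfCFib.selfC_of_geomFibre i hi.2.2.1
    (fun s => Sga3.H832.SelfCent.selfC_geomFibre f hu hi s)

theorem isCentre_bc (f : S' ⟶ S) {G Z : Over S} [GrpObj G] [GrpObj Z] {j : Z ⟶ G} (h : Red.IsCentre j) :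
    Red.IsCentre ((Over.pullback f).map j) := by
  have h1 := SplitBc264.isCentralizerOf_bc f h
  rw [CategoryTheory.Functor.map_id] at h1
  exact h1

/-- The centre of a group with a self-centralizing subgroup `T` of multiplicative type and a
representation whose kernel is the centre. -/
theorem centre_isMultTypeFT_of_rep {G H T Z : Over S} [GrpObj G] [GrpObj H] [GrpObj T] [GrpObj Z]
    [IsSeparated H.hom] [LocallyOfFiniteType H.hom]
    (i : T ⟶ G) [IsMonHom i] [Mono i] (hT : SGA3x.IsMultTypeFT T) (hs : SelfC i)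
    (j : Z ⟶ G) (hZ : Red.IsCentre j) (ρ : G ⟶ H) [IsMonHom ρ] (hc : CenRep.CKer ρ) :
    SGA3x.IsMultTypeFT Z := by
  have hj1 : IsMonHom j := hZ.1
  have hj2 : Mono j := hZ.2.1
  -- the centre is contained in the torus
  obtain ⟨k, hk⟩ := hs Z j (fun X' x t =>
    (hZ.2.2 Z j).mp ⟨𝟙 _, Category.id_comp _⟩ X' x (t ≫ i))
  have hk1 : Mono k := by
    have : Mono (k ≫ i) := by rw [hk]; infer_instance
    exact mono_of_mono k i
  have hk2 : IsMonHom k := by
    constructor
    · rw [← cancel_mono i, Category.assoc, hk, IsMonHom.one_hom, IsMonHom.one_hom]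
    · rw [← cancel_mono i, Category.assoc, hk, IsMonHom.mul_hom, Category.assoc,
        IsMonHom.mul_hom (f := i), ← Category.assoc, tensorHom_comp_tensorHom, hk]
  refine MTKer.isMultTypeFT_kernel hT (i ≫ ρ) k (fun X x => ?_)
  rw [← Category.assoc, hc]
  constructor
  · rintro ⟨z, rfl⟩ T' t h
    have h1 := (hZ.2.2 X (z ≫ j)).mp ⟨z, rfl⟩ T' t h
    rw [Category.comp_id] at h1
    rw [Category.assoc z k i, hk]
    exact h1
  · intro h
    obtain ⟨z, hz⟩ := (hZ.2.2 _ (x ≫ i)).mpr (fun X' x' h' => by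
      have h1 := h X' x' h'
      rw [Category.comp_id]
      exact h1)
    exact ⟨z, by rw [← cancel_mono i, Category.assoc, hk, hz]⟩

/-- The centre of a group with a self-centralizing subgroup `T` of multiplicative type. -/
theorem centre_isMultTypeFT_of_selfC (G : Over S) [GrpObj G] [Smooth G.hom] [QuasiCompact G.hom]
    [IsSeparated G.hom] (hconn : ∀ s : S, _root_.IsConnected (G.hom.base ⁻¹' {s}))
    {T : Over S} [GrpObj T] (i : T ⟶ G) [IsMonHom i] [Mono i] (hT : SGA3x.IsMultTypeFT T) (hs : SelfC i)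
    {Z : Over S} [GrpObj Z] (j : Z ⟶ G) (hZ : Red.IsCentre j) : SGA3x.IsMultTypeFT Z := by
  refine MTLoc.of_etale fun s => ?_
  obtain ⟨U, hsU, -, m, _, _, ρ, hρ, hc⟩ := CenRep.exists_rep_center G hconn s
  refine ⟨U, U.ι, inferInstance, ⟨⟨s, hsU⟩, rfl⟩, ?_⟩
  exact centre_isMultTypeFT_of_rep ((Over.pullback U.ι).map i) (MTLoc.bc U.ι hT) (selfC_bc U.ι hs)
    ((Over.pullback U.ι).map j) (isCentre_bc U.ι hZ) ρ hc

/-- **The centre of a smooth group with affine connected fibres and unipotent rank zero is of multiplicative type.** -/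
theorem centre_isMultTypeFT (G : Over S) [GrpObj G] [Smooth G.hom]
    (haff : ∀ s : S, IsAffine (pullback G.hom (S.fromSpecResidueField s)))
    (hconn : ∀ s : S, _root_.IsConnected (G.hom.base ⁻¹' {s})) (hu : SGA3x.UnipotentRankZero G)
    {Z : Over S} [GrpObj Z] (j : Z ⟶ G) (hZ : Red.IsCentre j) : SGA3x.IsMultTypeFT Z := by
  obtain ⟨hsep, hqc⟩ := sep_qc G hconn
  have haff' : Sga3B.AffDvrGrp789.AffFib G.hom := Sga3.H804.DimOne.affFib_of_fibres G.hom haff
  obtain ⟨S', f, hf, hfs, T, _, i, hi⟩ :=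
    Sga3.H804.MtMain.hasMaxTorusEtaleLocally Sga3.H804.FinTC.torusCrit G haff' hu
  have h1 : IsMonHom i := hi.1
  have h2 : Mono i := hi.2.1
  refine MTLoc.of_etale fun s => ⟨S', f, hf, hfs.surj s, ?_⟩
  have h3 : Smooth (Red.bc f G).hom := inferInstanceAs (Smooth (pullback.snd _ _))
  have h4 : QuasiCompact (Red.bc f G).hom := inferInstanceAs (QuasiCompact (pullback.snd _ _))
  have h5 : IsSeparated (Red.bc f G).hom := inferInstanceAs (IsSeparated (pullback.snd _ _))
  exact centre_isMultTypeFT_of_selfC (Red.bc f G) (Sga3.H819.CentKer.isConnected_bc f G hconn) i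
    (K21.MultLoc.isMultTypeFT_of_isTorus hi.2.2.1) (selfC f hu hi) _ (isCentre_bc f hZ)

end K10.URZ
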