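import Groth.Agent.SGA3x.K10.Reynolds
import Groth.Agent.Sga3C.QuotProps
import Groth.Agent.Sga3B.RepDescent9
import Groth.Agent.Sga3B.TorusEtSplit
import Groth.Agent.Desc.LQF
import Groth.Agent.Desc.LqfQAff
import Groth.Agent.S4091
import Groth.Agent.SGA3x.K5.CentNorm
import Groth.Agent.Sga3B.SplitBc264

/-!
# The quotient of an affine group by an open and closed torus is affine
-/

set_option autoImplicit false
universe u
open CategoryTheory MonoidalCategory CartesianMonoidalCategory MonObj GrpObj AlgebraicGeometry Limits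

namespace K10.WeylAff

open Groth.Agent Groth.Agent.Sga3B

section qaff

variable {S : Scheme.{u}} {N T W : Over S} [GrpObj N]

/-- The automorphism `(a, b) ↦ (a, a b)` of `N ⊗ N`. -/
lemma isIso_shear (N : Over S) [GrpObj N] : IsIso (lift (fst N N) μ[N]) := by
  have hμ : μ[N] = fst N N * snd N N := by
    rw [Hom.mul_def]; simp
  refine ⟨lift (fst N N) ((fst N N)⁻¹ * snd N N), ?_, ?_⟩
  · ext1
    · simp
    · simp only [comp_lift, lift_fst, comp_mul, comp_inv, lift_snd, Category.id_comp, hμ,
        inv_mul_cancel_left]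
  · ext1
    · simp
    · simp only [comp_lift, lift_fst, comp_mul, lift_snd, Category.id_comp, hμ,
        mul_inv_cancel_left]

/-- Properties of the diagonal of a quotient. -/
lemma diagonal_of (P : MorphismProperty Scheme.{u}) [P.IsStableUnderBaseChange] [P.IsMultiplicative]
    [P.DescendsAlong (@Surjective ⊓ @Flat ⊓ @LocallyOfFinitePresentation)]
    (t : T ⟶ N) (ht : P t.left) (q : N ⟶ W) (hq : RedSub.IsQuotient t q) : P (pullback.diagonal W.hom) := by
  obtain ⟨q1, q2, q3, q4⟩ := hq
  have h1 := Sga3C.QuotProps.isPullback_diagonal q4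
  have h2 : lift (fst N T) ((N ◁ t) ≫ μ[N]) = (N ◁ t) ≫ lift (fst N N) μ[N] := by
    ext1 <;> simp
  have h3 : P (N ◁ t).left :=
    MorphismProperty.pullbackMap (P := P) (i₁ := 𝟙 N.left) (i₂ := t.left)
      (P.id_mem _) ht (Category.id_comp _).symm (Over.w t).symm
  have h3' := isIso_shear N
  have h3'' : IsIso (lift (fst N N) μ[N]).left :=
    inferInstanceAs (IsIso ((Over.forget _).map (lift (fst N N) μ[N])))
  have h4 : P (lift (fst N T) ((N ◁ t) ≫ μ[N])).left := by
    rw [h2, Over.comp_left, P.cancel_right_of_respectsIso]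
    exact h3
  have h5 : (@Surjective ⊓ @Flat ⊓ @LocallyOfFinitePresentation : MorphismProperty Scheme.{u})
      (q ⊗ₘ q).left :=
    ⟨⟨Sga3C.QuotProps.tensorHom_left_of (@Surjective) q q ‹_› ‹_›,
      Sga3C.QuotProps.tensorHom_left_of (@Flat) q q ‹_› ‹_›⟩,
      Sga3C.QuotProps.tensorHom_left_of (@LocallyOfFinitePresentation) q q ‹_› ‹_›⟩
  have h6 := h1.map (Over.forget S)
  have h7 : P (lift (𝟙 W) (𝟙 W)).left :=
    MorphismProperty.of_isPullback_of_descendsAlong (P := P)
      (Q := @Surjective ⊓ @Flat ⊓ @LocallyOfFinitePresentation) h6 h5 h4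
  exact h7

/-- The quotient by an open and closed subgroup is quasi-affine over an affine base. -/
theorem isQuasiAffine_left [IsAffine S] (t : T ⟶ N) [IsOpenImmersion t.left] [IsClosedImmersion t.left]
    (q : N ⟶ W) (hq : RedSub.IsQuotient t q) [LocallyOfFiniteType N.hom] [QuasiCompact N.hom] :
    W.left.IsQuasiAffine := by
  have hsep : IsSeparated W.hom := ⟨diagonal_of @IsClosedImmersion t ‹_› q hq⟩
  have hun : FormallyUnramified W.hom := by
    have h8 : IsOpenImmersion (pullback.diagonal W.hom) := diagonal_of @IsOpenImmersion t ‹_› q hq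
    infer_instance
  obtain ⟨q1, q2, q3, q4⟩ := hq
  have hlft : LocallyOfFiniteType W.hom := by
    have : LocallyOfFiniteType (q.left ≫ W.hom) := by rw [Over.w]; infer_instance
    exact S4091.locallyOfFiniteType_of_fppf_comp q.left W.hom
  have hqf : LocallyQuasiFinite W.hom := Desc.LQF.of_unramified W.hom
  have hqc : QuasiCompact W.hom := by
    have h0 : QuasiCompact (q.left ≫ W.hom) := by rw [Over.w]; infer_instance
    refine ⟨fun V hVo hV => ?_⟩
    have h1 := (q.left ≫ W.hom).isCompact_preimage (U := ⟨V, hVo⟩) hV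
    have h2 : (W.hom : W.left → S) ⁻¹' V = (q.left : N.left → W.left) '' ((q.left ≫ W.hom : N.left ⟶ S) ⁻¹' V) := by
      ext y
      constructor
      · intro hy
        obtain ⟨x, rfl⟩ := q.left.surjective y
        exact ⟨x, hy, rfl⟩
      · rintro ⟨x, hx, rfl⟩
        exact hx
    rw [h2]
    exact h1.image q.left.continuous
  have hcs : CompactSpace W.left := (HasAffineProperty.iff_of_isAffine (P := @QuasiCompact) (f := W.hom)).1 hqc
  have h1 : IsAffine W.hom.normalization := isAffine_of_isAffineHom W.hom.fromNormalization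
  exact Scheme.IsQuasiAffine.of_isImmersion W.hom.toNormalization

end qaff

section split

open Groth.Agent.Books.AffBridge Groth.Agent.Books.AffBridge2 Groth.Agent.Sga3B.RG.BrDiag

variable {R : Type u} [CommRing R] {M : Type} [AddCommGroup M] {N W : Over (Spec (CommRingCat.of R))} [GrpObj N]
  [IsAffine N.left] (t : Red.DS (Spec (CommRingCat.of R)) M ⟶ N) [IsMonHom t] [Mono t]
  (q : N ⟶ W) (hq : RedSub.IsQuotient t q)

include hq

theorem span_eq_top {s : Set Γ(W.left, ⊤)} (h : Ideal.span (q.left.appTop.hom '' s) = ⊤) :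
    Ideal.span s = ⊤ := by
  obtain ⟨B, _, _, ⟨e⟩⟩ := exists_specOver N
  obtain ⟨π, h1, h2, h3⟩ := Reynolds.exists_reynolds e t q hq
  have h0 : π 0 = 0 := by
    have := h2 0 0
    rw [add_zero] at this
    exact left_eq_add.mp this
  have key : ∀ x ∈ Ideal.span (q.left.appTop.hom '' s), ∀ b, π (x * b) ∈ Ideal.span s := by
    intro x hx
    induction hx using Submodule.span_induction with
    | mem x hx =>
      obtain ⟨c, hc, rfl⟩ := hx
      intro b
      rw [h3]
      exact Ideal.mul_mem_right _ _ (Ideal.subset_span hc)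
    | zero =>
      intro b
      rw [zero_mul, h0]
      exact zero_mem _
    | add x y _ _ hx hy =>
      intro b
      rw [add_mul, h2]
      exact add_mem (hx b) (hy b)
    | smul a x _ hx =>
      intro b
      rw [smul_eq_mul, _root_.mul_comm a x, _root_.mul_assoc]
      exact hx _
  rw [Ideal.eq_top_iff_one]
  have h4 := key 1 (h ▸ Submodule.mem_top) 1
  rwa [_root_.mul_one, h1] at h4

/-- The quotient of an affine group by a diagonalizable subgroup is affine if it is quasi-affine. -/
theorem isAffine_left [W.left.IsQuasiAffine] : IsAffine W.left := by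
  refine isAffine_of_isAffineOpen_basicOpen {c | IsAffineOpen (W.left.basicOpen c)} ?_ (fun _ h => h)
  apply span_eq_top t q hq
  rw [← (isAffineOpen_top N.left).self_le_iSup_basicOpen_iff]
  intro x _
  obtain ⟨_, ⟨_, ⟨r, hr, rfl⟩, rfl⟩, hxr, -⟩ := (Scheme.IsQuasiAffine.isBasis_basicOpen
    W.left).exists_subset_of_mem_open (Set.mem_univ (q.left x)) isOpen_univ
  refine TopologicalSpace.Opens.mem_iSup.2 ⟨⟨q.left.appTop.hom r, r, hr, rfl⟩, ?_⟩
  change x ∈ N.left.basicOpen (q.left.appTop r)
  rw [← Scheme.preimage_basicOpen_top]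
  exact hxr

end split

/-- Composition of a quotient datum with an isomorphism. -/
theorem isQuotient_iso {S : Scheme.{u}} {N T T' W : Over S} [GrpObj N] {t : T ⟶ N} {q : N ⟶ W}
    (h : RedSub.IsQuotient t q) (e : T' ≅ T) [Mono t] : RedSub.IsQuotient (e.hom ≫ t) q := by
  have hm : Mono (e.hom ≫ t) := mono_comp _ _
  refine ⟨h.1, h.2.1, h.2.2.1, RedSub.H650.QuotPts.isPullback_of_ptQuot fun X a b => ?_⟩
  rw [RedSub.H650.QuotPts.ptQuot_of_isPullback h.2.2.2 X a b]
  constructor
  · rintro ⟨y, hy⟩
    exact ⟨y ≫ e.inv, by rw [Category.assoc, e.inv_hom_id_assoc, hy]⟩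
  · rintro ⟨y, hy⟩
    exact ⟨y ≫ e.hom, by rw [hy, Category.assoc]⟩

/-- **The quotient of an affine group by an open and closed torus is affine.** -/
theorem isAffineHom_quotient {S : Scheme.{u}} {N T W : Over S} [GrpObj N] [GrpObj T] (hT : Red.IsTorus T)
    (t : T ⟶ N) [IsMonHom t] [Mono t] [IsOpenImmersion t.left] [IsClosedImmersion t.left]
    (q : N ⟶ W) (hq : RedSub.IsQuotient t q) [LocallyOfFiniteType N.hom] [IsAffineHom N.hom] :
    IsAffineHom W.hom := by
  refine RepDescent.of_etale_cover (P := @IsAffineHom) W.hom fun s => ?_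
  obtain ⟨B, _, v, r, hv, hs, ⟨E⟩⟩ := TorusEtSplit.exists_etale_split T hT s
  refine ⟨_, v, hv, hs, ?_⟩
  have hE : IsMonHom E.inv.hom.hom := E.inv.hom.isMonHom_hom
  have hE1 : E.inv.hom.hom ≫ E.hom.hom.hom = 𝟙 _ := congrArg (fun k => k.hom.hom) E.inv_hom_id
  have hE2 : E.hom.hom.hom ≫ E.inv.hom.hom = 𝟙 _ := congrArg (fun k => k.hom.hom) E.hom_inv_id
  let e : Red.DS (Spec (CommRingCat.of B)) (Fin r → ℤ) ≅ Red.bc v T := ⟨E.inv.hom.hom, E.hom.hom.hom, hE1, hE2⟩
  have hq' := RedSub.H650.QuotPts.isQuotient_bc v hq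
  have hm : Mono ((Over.pullback v).map t) := inferInstance
  have ho : IsOpenImmersion ((Over.pullback v).map t).left :=
    MorphismProperty.of_isPullback (P := @IsOpenImmersion) (SplitBc264.isPullback_map_left v t) inferInstance
  have hc : IsClosedImmersion ((Over.pullback v).map t).left :=
    MorphismProperty.of_isPullback (P := @IsClosedImmersion) (SplitBc264.isPullback_map_left v t) inferInstance
  have hN1 : LocallyOfFiniteType (Red.bc v N).hom := inferInstanceAs (LocallyOfFiniteType (pullback.snd _ _))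
  have hN2 : IsAffineHom (Red.bc v N).hom := MorphismProperty.pullback_snd (P := @IsAffineHom) _ _ ‹_›
  have hN3 : IsAffine (Red.bc v N).left := isAffine_of_isAffineHom (Red.bc v N).hom
  have hqa : (Red.bc v W).left.IsQuasiAffine := isQuasiAffine_left ((Over.pullback v).map t) ((Over.pullback v).map q) hq'
  have he : IsMonHom e.hom := hE
  have hm' : Mono (e.hom ≫ (Over.pullback v).map t) := mono_comp _ _
  have h1 : IsAffine (Red.bc v W).left :=
    isAffine_left (e.hom ≫ (Over.pullback v).map t) ((Over.pullback v).map q) (isQuotient_iso hq' e)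
  exact (inferInstance : IsAffineHom (Red.bc v W).hom)

end K10.WeylAff
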