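import Groth.Agent.SGA3x.K10.NormAff
import Groth.Agent.SGA3x.K10.WeylAff
import Groth.Agent.SGA3x.K10.URZNil
import Groth.Agent.Sga3.H825.SelfCent

/-!
# Affineness of the normalizer of a maximal torus and of the Weyl group
-/

set_option autoImplicit false
universe u
open CategoryTheory MonoidalCategory CartesianMonoidalCategory MonObj GrpObj AlgebraicGeometry Limits

namespace K10.NormAffMain

open Groth.Agent Groth.Agent.Sga3B

variable {S : Scheme.{u}} {G T N : Over S} [GrpObj G] [GrpObj T] [GrpObj N] [Smooth G.hom] [QuasiCompact G.hom]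
    (hconn : ∀ s : S, _root_.IsConnected (G.hom.base ⁻¹' {s})) (hu : SGA3x.UnipotentRankZero G)
    (i : T ⟶ G) (hT : Red.IsMaximalTorus i) (n : N ⟶ G) (hN : Red.IsNormalizerOf i n)

include hconn hu hT hN

theorem isAffineHom_weyl_iff (W : Over S) (t : T ⟶ N) [IsMonHom t] (q : N ⟶ W) (ht : t ≫ n = i)
    (hq : RedSub.IsQuotient t q) : IsAffineHom N.hom ↔ IsAffineHom W.hom := by
  obtain ⟨hsep, -⟩ := URZ.sep_qc G hconn
  have h1 : IsMonHom i := hT.1
  have h2 : Mono i := hT.2.1
  have h3 : Mono n := hN.2.1
  have h4 : Mono t := by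
    have : Mono (t ≫ n) := by rw [ht]; infer_instance
    exact mono_of_mono t n
  have hTa : IsAffineHom T.hom := Sga3B.TorusAlgClosed.isAffineHom_of_isTorus hT.2.2.1
  constructor
  · intro h
    have hc : Red.IsCentralizerOf i i :=
      Sga3.H825.SelfCent.isCentralizerOf_of_selfC hT.2.2.1 (URZNil.selfC hu i hT)
    obtain ⟨f, hf, ho, hcl⟩ := Groth.Agent.SGA3x.K5.CentNorm.exists_openImmersion
      (K21.MultLoc.isMultTypeFT_of_isTorus hT.2.2.1) i i n hc hN
    have hft : f = t := by rw [← cancel_mono n, hf, ht]
    subst hft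
    have hncl : IsClosedImmersion n.left := (NormAff.closed_smooth i hT.2.2.1 n hN).1
    have hNl : LocallyOfFiniteType N.hom := by
      rw [← Over.w n]
      infer_instance
    exact WeylAff.isAffineHom_quotient hT.2.2.1 f q hq
  · intro h
    obtain ⟨q1, q2, q3, q4⟩ := hq
    have sq := q4.map (Over.forget S)
    have k1 : IsAffineHom (fst N T).left :=
      MorphismProperty.pullback_fst (P := @IsAffineHom) _ _ hTa
    have k2 : IsAffineHom (pullback.fst q.left q.left) := by
      have e : pullback.fst q.left q.left = sq.isoPullback.inv ≫ (fst N T).left := sq.isoPullback_inv_fst.symm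
      rw [e]
      exact (MorphismProperty.cancel_left_of_respectsIso @IsAffineHom sq.isoPullback.inv (fst N T).left).2 k1
    have k4 : IsAffineHom q.left :=
      MorphismProperty.of_pullback_fst_of_descendsAlong (P := @IsAffineHom)
        (Q := @Surjective ⊓ @Flat ⊓ @LocallyOfFinitePresentation) (f := q.left) (g := q.left)
        ⟨⟨inferInstance, inferInstance⟩, inferInstance⟩ k2
    rw [← Over.w q]
    infer_instance

end K10.NormAffMain
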