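import Groth.Agent.SGA3x.K10.URZAff
import Groth.Agent.Sga3.H739.Fpqc
import Groth.Agent.SGA3x.K18.PbKit
import Groth.Agent.SGA3x.K18.CentQuot
import Groth.Agent.Sga3C.FlatImage2
import Groth.Agent.Sga3.H825.SelfCent
import Groth.Agent.S0115
import Groth.Agent.S4145

/-!
# Smooth solvable groups of unipotent rank zero with connected fibres are affine
-/

set_option autoImplicit false
universe u
open CategoryTheory MonoidalCategory CartesianMonoidalCategory MonObj GrpObj AlgebraicGeometry Limits

namespace K10.SolvAff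

open Groth.Agent Groth.Agent.Sga3B Groth.Agent.Sga3B.MaxTorBc636 Groth.Agent.Sga7.H760.KerBc Groth.Agent.Sga3B.RedIso

section quot

variable {S : Scheme.{u}}

/-- precomposition as a homomorphism -/
noncomputable def pre {X X' : Over S} (c : X' ⟶ X) (G : Over S) [GrpObj G] : (X ⟶ G) →* (X' ⟶ G) :=
  MonoidHom.mk' (fun g => c ≫ g) (fun a b => MonObj.comp_mul _ _ _)

lemma pre_mem {X X' : Over S} (c : X' ⟶ X) {G : Over S} [GrpObj G] (n : ℕ) {g : X ⟶ G}
    (h : g ∈ derivedSeries (X ⟶ G) n) : c ≫ g ∈ derivedSeries (X' ⟶ G) n :=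
  map_derivedSeries_le_derivedSeries (pre c G) n ⟨g, h, rfl⟩

/-- Elements of the derived series of a flat quotient lift locally. -/
theorem exists_lift_derivedSeries {G Q : Over S} [GrpObj G] [GrpObj Q] (p : G ⟶ Q) [IsMonHom p] [Flat p.left]
    [Surjective p.left] (n : ℕ) : ∀ {X : Over S} (x : X ⟶ Q), x ∈ derivedSeries (X ⟶ Q) n →
    ∃ (X' : Over S) (c : X' ⟶ X) (g : X' ⟶ G), Flat c.left ∧ Surjective c.left ∧
      g ∈ derivedSeries (X' ⟶ G) n ∧ g ≫ p = c ≫ x := by
  induction n with
  | zero =>
    intro X x _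
    obtain ⟨X', c, t, h1, h2, h3⟩ := K18.CentQuot.exists_cover p x
    exact ⟨X', c, t, h1, h2, by rw [derivedSeries_zero]; trivial, h3⟩
  | succ n ih =>
    intro X x hx
    rw [derivedSeries_succ, Subgroup.commutator_def] at hx
    induction hx using Subgroup.closure_induction with
    | mem x hx =>
      obtain ⟨a, ha, b, hb, rfl⟩ := hx
      obtain ⟨X₁, c₁, g₁, h1, h2, h3, h4⟩ := ih a ha
      obtain ⟨X₂, c₂, g₂, k1, k2, k3, k4⟩ := ih b hb
      obtain ⟨X₃, d, t, l1, l2, l3⟩ := K18.CentQuot.exists_cover c₁ c₂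
      refine ⟨X₃, d ≫ c₂, (t ≫ g₁) * (d ≫ g₂) * (t ≫ g₁)⁻¹ * (d ≫ g₂)⁻¹, ?_, ?_, ?_, ?_⟩
      · rw [Over.comp_left]; infer_instance
      · rw [Over.comp_left]; infer_instance
      · rw [derivedSeries_succ]
        exact Subgroup.commutator_mem_commutator (pre_mem t n h3) (pre_mem d n k3)
      · rw [commutatorElement_def, MonObj.mul_comp, MonObj.mul_comp, MonObj.mul_comp,
          GrpObj.inv_comp, GrpObj.inv_comp, Category.assoc, Category.assoc, h4, k4, MonObj.comp_mul,
          MonObj.comp_mul, MonObj.comp_mul, GrpObj.comp_inv, GrpObj.comp_inv, ← Category.assoc t, l3]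
        simp only [Category.assoc]
    | one =>
      exact ⟨X, 𝟙 X, 1, inferInstanceAs (Flat (𝟙 X.left)), inferInstanceAs (Surjective (𝟙 X.left)),
        Subgroup.one_mem _, by rw [MonObj.one_comp, MonObj.comp_one]⟩
    | mul a b _ _ iha ihb =>
      obtain ⟨X₁, c₁, g₁, h1, h2, h3, h4⟩ := iha
      obtain ⟨X₂, c₂, g₂, k1, k2, k3, k4⟩ := ihb
      obtain ⟨X₃, d, t, l1, l2, l3⟩ := K18.CentQuot.exists_cover c₁ c₂
      refine ⟨X₃, d ≫ c₂, (t ≫ g₁) * (d ≫ g₂), ?_, ?_, ?_, ?_⟩
      · rw [Over.comp_left]; infer_instance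
      · rw [Over.comp_left]; infer_instance
      · exact mul_mem (pre_mem t _ h3) (pre_mem d _ k3)
      · rw [MonObj.mul_comp, Category.assoc, Category.assoc, h4, k4, MonObj.comp_mul, ← Category.assoc t, l3]
        simp only [Category.assoc]
    | inv a _ iha =>
      obtain ⟨X₁, c₁, g₁, h1, h2, h3, h4⟩ := iha
      exact ⟨X₁, c₁, g₁⁻¹, h1, h2, inv_mem h3, by rw [GrpObj.inv_comp, h4, GrpObj.comp_inv]⟩

/-- A flat quotient of a solvable group is solvable. -/
theorem isSolvableGrp_of_quotient {G Q : Over S} [GrpObj G] [GrpObj Q] (p : G ⟶ Q) [IsMonHom p] [Flat p.left]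
    [Surjective p.left] (h : Red.IsSolvableGrp G) : Red.IsSolvableGrp Q := by
  obtain ⟨n, hn⟩ := h
  refine ⟨n, fun X => ?_⟩
  rw [eq_bot_iff]
  intro x hx
  obtain ⟨X', c, g, h1, h2, h3, h4⟩ := exists_lift_derivedSeries p n x hx
  rw [hn X', Subgroup.mem_bot] at h3
  rw [Subgroup.mem_bot]
  apply K18.CentQuot.hom_ext_of_flat c
  rw [← h4, h3, MonObj.one_comp, MonObj.comp_one]

end quot

section field

variable {K : Type u} [Field K] [IsAlgClosed K]

/-- A group which has a flat covering by a group with self-centralizing maximal tori and central kernel has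
self-centralizing maximal tori. -/
theorem selfC_quotient {G Q T T₁ : Over (Spec (CommRingCat.of K))} [GrpObj G] [GrpObj Q] [GrpObj T] [GrpObj T₁]
    [LocallyOfFiniteType G.hom] [QuasiCompact G.hom] [IsSeparated G.hom] [LocallyOfFiniteType Q.hom]
    [IsSeparated Q.hom]
    (u : G ⟶ Q) [IsMonHom u] [Surjective u.left] [Flat u.left]
    (hq : ∀ (X : Over (Spec (CommRingCat.of K))) (z g : X ⟶ G), z ≫ u = 1 → z * g = g * z)
    (i : T ⟶ G) (hT : Red.IsMaximalTorus i) (hs : SelfC i)
    (j : T₁ ⟶ Q) (hj : Red.IsMaximalTorus j) : SelfC j := by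
  have hi1 := hT.1
  have hucov : Sga3.H739.Fpqc.Cov u := by
    refine ⟨inferInstance, inferInstance, ?_⟩
    have : QuasiCompact (u.left ≫ Q.hom) := by rw [Over.w]; infer_instance
    exact QuasiCompact.of_comp u.left Q.hom
  obtain ⟨T', _, v, i', hT', hv, hi', hm, hvs, hvf, hvw⟩ :=
    Sga3.H784.NAMain.exists_image_torus (i ≫ u) hT.2.2.1
  obtain ⟨C', _, c', hc', hcl, -⟩ := (Sga3B.CentNorm900.exists_centralizer_normalizer_torus hT' i').1
  have hc1 := hc'.1
  have hc2 := hc'.2.1
  have sq : IsPullback (pullback.fst u c') (pullback.snd u c') u c' := IsPullback.of_hasPullback u c'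
  obtain ⟨_, hh, hw⟩ := K18.PbKit.exists_grpObj_pullback u c' sq
  have key := K18.CentQuot.isCentralizerOf u hq i hT.2.2.1 i' v hvw c' hc' _ _ sq
  have hsC : SelfC i' := by
    intro X g hg
    obtain ⟨y, hy⟩ := (hc'.2.2 X g).mpr hg
    obtain ⟨X', c, g', hcov, hc⟩ := hucov.exists_local g
    let r : X' ⟶ pullback u c' := sq.lift g' (c ≫ y) (by rw [Category.assoc, hy, hc])
    have hr : r ≫ pullback.fst u c' = g' := sq.lift_fst _ _ _
    obtain ⟨t, ht⟩ := hs X' g' ((key.2.2 X' g').mp ⟨r, hr⟩)
    refine hcov.exists_lift_of_mono i' g (t ≫ v) ?_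
    rw [Category.assoc, hvw, ← Category.assoc, ht, hc]
  exact Sga3.H832.SelfCent.selfC_of_selfC (Sga3.H832.SelfCent.isMaximalTorus_of_selfC hT' hsC) hsC hj

end field

section main

variable {S : Scheme.{u}}

/-- A flat quotient of a smooth group is smooth. -/
theorem smooth_quotient {G Q : Over S} [GrpObj Q] [Smooth G.hom] (p : G ⟶ Q) [Flat p.left]
    [Surjective p.left] [LocallyOfFinitePresentation Q.hom] : Smooth Q.hom := by
  have h0 : Flat Q.hom := by
    have : Flat (p.left ≫ Q.hom) := by rw [Over.w]; infer_instance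
    exact Sga3C.FlatImage2.flat_of_comp_flat_surjective p.left Q.hom
  refine K18.PbKit.smooth_of_geomFibre fun s => ?_
  have hp := SplitBc264.isPullback_map_left (Red.geomPt s) p
  have h1 : Smooth (Red.geomFibre s G).hom := inferInstanceAs (Smooth (pullback.snd _ _))
  have h2 : Flat ((Over.pullback (Red.geomPt s)).map p).left :=
    MorphismProperty.of_isPullback (P := @Flat) hp inferInstance
  have h3 : Surjective ((Over.pullback (Red.geomPt s)).map p).left :=
    MorphismProperty.of_isPullback (P := @Surjective) hp inferInstance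
  have h4 : Smooth (((Over.pullback (Red.geomPt s)).map p).left ≫ (Red.geomFibre s Q).hom) := by
    have e : ((Over.pullback (Red.geomPt s)).map p).left ≫ (Red.geomFibre s Q).hom = (Red.geomFibre s G).hom :=
      Over.w ((Over.pullback (Red.geomPt s)).map p)
    rw [e]; infer_instance
  have h5 : LocallyOfFinitePresentation (Red.geomFibre s Q).hom :=
    inferInstanceAs (LocallyOfFinitePresentation (pullback.snd _ _))
  exact S0115.smooth_of_comp_field _ ((Over.pullback (Red.geomPt s)).map p).left _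

/-- A flat quotient by a central subgroup of a group of unipotent rank zero has unipotent rank zero. -/
theorem unipotentRankZero_quotient {G Q : Over S} [GrpObj G] [GrpObj Q] [Smooth G.hom] [QuasiCompact G.hom]
    [IsSeparated G.hom] (hu : SGA3x.UnipotentRankZero G) [LocallyOfFiniteType Q.hom] (p : G ⟶ Q) [IsMonHom p]
    [Flat p.left] [Surjective p.left] [IsSeparated Q.hom]
    (hker : ∀ (X : Over S) (z g : X ⟶ G), z ≫ p = 1 → z * g = g * z) : SGA3x.UnipotentRankZero Q := by
  intro s T' _ i' hi'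
  have hp := SplitBc264.isPullback_map_left (Red.geomPt s) p
  have h1 : Smooth (Red.geomFibre s G).hom := inferInstanceAs (Smooth (pullback.snd _ _))
  have h1a : QuasiCompact (Red.geomFibre s G).hom := inferInstanceAs (QuasiCompact (pullback.snd _ _))
  have h1b : IsSeparated (Red.geomFibre s G).hom := inferInstanceAs (IsSeparated (pullback.snd _ _))
  have h1c : LocallyOfFiniteType (Red.geomFibre s Q).hom := inferInstanceAs (LocallyOfFiniteType (pullback.snd _ _))
  have h1d : IsSeparated (Red.geomFibre s Q).hom := inferInstanceAs (IsSeparated (pullback.snd _ _))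
  have h2 : Flat ((Over.pullback (Red.geomPt s)).map p).left :=
    MorphismProperty.of_isPullback (P := @Flat) hp inferInstance
  have h3 : Surjective ((Over.pullback (Red.geomPt s)).map p).left :=
    MorphismProperty.of_isPullback (P := @Surjective) hp inferInstance
  obtain ⟨T, _, i, hi⟩ := Sga3.H784.NAMain.exists_isMaximalTorus (Red.geomFibre s G)
  have hs : SelfC i := fun X g hg => ((hu s T i hi).2.2 X g).mpr hg
  have := hi'.1
  have := hi'.2.1
  refine Sga3.H825.SelfCent.isCentralizerOf_of_selfC hi'.2.2.1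
    (selfC_quotient (G := Red.geomFibre s G) (Q := Red.geomFibre s Q) ((Over.pullback (Red.geomPt s)).map p)
      (fun X z g hz => ?_) i hi hs i' hi')
  refine K18.PbKit.central_bc' p (fun X z hz X' x g => ?_) (Red.geomPt s) X z g hz
  exact hker X' _ g (by rw [Category.assoc, hz, MonObj.comp_one])

/-- A subgroup of an affine group is affine (over a field). -/
theorem isAffineHom_of_mono_field {F : Type u} [Field F] {Q H : Over (Spec (CommRingCat.of F))} [GrpObj Q]
    [GrpObj H] [LocallyOfFiniteType Q.hom] [LocallyOfFiniteType H.hom] [IsAffineHom H.hom] (j : Q ⟶ H)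
    [IsMonHom j] [Mono j] [QuasiCompact j.left] : IsAffineHom Q.hom := by
  have h6 : IsClosedImmersion j.left := S3036.result F Q H j
  rw [← Over.w j]
  infer_instance

/-- Affineness of a solvable group of unipotent rank zero with a self-centralizing torus and a representation with
central kernel. -/
theorem isAffineHom_of_rep {G T H : Over S} [GrpObj G] [GrpObj T] [GrpObj H]
    [Smooth G.hom] [QuasiCompact G.hom] [IsSeparated G.hom]
    (hconn : ∀ s : S, _root_.IsConnected (G.hom.base ⁻¹' {s})) (hu : SGA3x.UnipotentRankZero G)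
    (hsolv : ∀ s : S, Red.IsSolvableGrp (Red.geomFibre s G))
    [IsAffineHom H.hom] [LocallyOfFinitePresentation H.hom]
    (i : T ⟶ G) (hT : Red.IsTorus T) [IsMonHom i] [Mono i] (hc : SelfC i) (ρ : G ⟶ H) [IsMonHom ρ]
    (hρ : ∀ (X : Over S) (x y : X ⟶ G), x ≫ ρ = 1 → x * y = y * x) : IsAffineHom G.hom := by
  obtain ⟨z, hz⟩ := hc _ (Sga3B.KerGrp.kerι ρ) (fun X' x h => by
    refine hρ X' _ _ ?_
    rw [Category.assoc, Sga3B.KerGrp.kerι_comp, MonObj.comp_one])
  have hzk : AlgGrp.IsKernel z (i ≫ ρ) := by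
    rw [isKernel_iff]
    refine ⟨?_, fun X g hg => ?_⟩
    · rw [← Category.assoc, hz, Sga3B.KerGrp.kerι_comp]
    · obtain ⟨y, hy⟩ := Sga3B.KerGrp.exists_lift ρ (g ≫ i) (by rw [Category.assoc, hg])
      refine ⟨y, ?_, fun y' hy' => ?_⟩
      · change y ≫ z = g
        rw [← cancel_mono i, Category.assoc, hz, hy]
      · have h1 : y' ≫ z = g := hy'
        rw [← cancel_mono (Sga3B.KerGrp.kerι ρ), hy, ← hz, ← Category.assoc, h1]
  have hKf : Flat (Sga3B.KerGrp.kerObj ρ).hom := Sga3.H804.QaKer.flat_ker hT (i ≫ ρ) hzk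
  have hTa : IsAffineHom T.hom := Sga3B.TorusAlgClosed.isAffineHom_of_isTorus hT
  have hza : IsAffineHom z.left := by
    obtain ⟨e, he⟩ := exists_iso hzk (isKernel_kerι (i ≫ ρ))
    have h1 : z.left = e.hom.left ≫ (Sga3B.KerGrp.kerι (i ≫ ρ)).left := by
      rw [← he]; rfl
    rw [h1]
    infer_instance
  have hKa : IsAffineHom (Sga3B.KerGrp.kerObj ρ).hom := by
    rw [← Over.w z]
    infer_instance
  obtain ⟨e, he⟩ := exists_iso (isKernel_kerι ρ) (Sga3.H804.QaKer.isKernel_pullback ρ)
  have hKf' : Flat (pullback ρ η[H]).hom := by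
    have h1 : (pullback ρ η[H]).hom = e.inv.left ≫ (Sga3B.KerGrp.kerObj ρ).hom := (Over.w _).symm
    rw [h1]
    infer_instance
  have hKa' : IsAffineHom (pullback ρ η[H]).hom := by
    have h1 : (pullback ρ η[H]).hom = e.inv.left ≫ (Sga3B.KerGrp.kerObj ρ).hom := (Over.w _).symm
    rw [h1]
    infer_instance
  obtain ⟨Q, _, p, j, hp, hj, hpj, hps, hpf, hpl, hjm, hQl, hk⟩ := S4094.result _ G H ρ hKf'
  -- `p` is affine
  have h0 : IsAffineHom (pullback.snd p.left (η[Q] : 𝟙_ (Over S) ⟶ Q).left) := by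
    obtain ⟨e, -⟩ := exists_iso (isKernel_kerι p) hk
    have h1 : (Sga3B.KerGrp.kerObj p).hom = e.hom.left ≫ (pullback ρ η[H]).hom := (Over.w _).symm
    change IsAffineHom (Sga3B.KerGrp.kerObj p).hom
    rw [h1]
    infer_instance
  have hpa : IsAffineHom p.left := by
    obtain ⟨d, hd⟩ := Sga3C.KerSquare.isPullback_fst_ker p
    have h1 : IsAffineHom (pullback.fst p.left p.left) :=
      MorphismProperty.of_isPullback (P := @IsAffineHom) hd.flip h0
    exact MorphismProperty.of_pullback_fst_of_descendsAlong (P := @IsAffineHom)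
      (Q := @Surjective ⊓ @Flat ⊓ @LocallyOfFinitePresentation) (f := p.left) (g := p.left)
      ⟨⟨inferInstance, inferInstance⟩, inferInstance⟩ h1
  -- properties of `Q`
  have hQc : QuasiCompact Q.hom := by
    have h1 : QuasiCompact (p.left ≫ Q.hom) := by rw [Over.w]; infer_instance
    exact Sga3.H804.QaMain.quasiCompact_of_surjective p.left Q.hom
  have hQs : IsSeparated Q.hom := by
    rw [← Over.w j]
    infer_instance
  have hQsm : Smooth Q.hom := smooth_quotient p
  have hcen : ∀ (X : Over S) (z g : X ⟶ G), z ≫ p = 1 → z * g = g * z := fun X z g hz =>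
    hρ X z g (by rw [← hpj, ← Category.assoc, hz, MonObj.one_comp])
  have hQu : SGA3x.UnipotentRankZero Q := unipotentRankZero_quotient hu p hcen
  have hQconn : ∀ s : S, _root_.IsConnected (Q.hom.base ⁻¹' {s}) := by
    intro s
    have h1 : Q.hom.base ⁻¹' {s} = p.left.base '' (G.hom.base ⁻¹' {s}) := by
      ext y
      constructor
      · intro hy
        obtain ⟨x, rfl⟩ := p.left.surjective y
        refine ⟨x, ?_, rfl⟩
        rw [← Over.w p]
        exact hy
      · rintro ⟨x, hx, rfl⟩
        rw [← Over.w p] at hx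
        exact hx
    rw [h1]
    exact (hconn s).image _ p.left.continuous.continuousOn
  have hjq : QuasiCompact j.left := by
    have : QuasiCompact (j.left ≫ H.hom) := by rw [Over.w]; infer_instance
    exact QuasiCompact.of_comp j.left H.hom
  have hQa : ∀ s : S, IsAffine (pullback Q.hom (S.fromSpecResidueField s)) := by
    intro s
    let f := S.fromSpecResidueField s
    have hpb := SplitBc264.isPullback_map_left f j
    have h2 : QuasiCompact ((Over.pullback f).map j).left :=
      MorphismProperty.of_isPullback (P := @QuasiCompact) hpb inferInstance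
    have h3 : LocallyOfFiniteType (Red.bc f Q).hom := inferInstanceAs (LocallyOfFiniteType (pullback.snd _ _))
    have h4 : LocallyOfFiniteType (Red.bc f H).hom := inferInstanceAs (LocallyOfFiniteType (pullback.snd _ _))
    have h5 : IsAffineHom (Red.bc f H).hom := inferInstanceAs (IsAffineHom (pullback.snd _ _))
    have h7 : IsAffineHom (Red.bc f Q).hom :=
      isAffineHom_of_mono_field (F := S.residueField s) (Q := Red.bc f Q) (H := Red.bc f H)
        ((Over.pullback f).map j)
    exact isAffine_of_isAffineHom (Red.bc f Q).hom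
  have hQsolv : ∀ s : S, Red.IsSolvableGrp (Red.geomFibre s Q) := by
    intro s
    have hpb := SplitBc264.isPullback_map_left (Red.geomPt s) p
    have h2 : Flat ((Over.pullback (Red.geomPt s)).map p).left :=
      MorphismProperty.of_isPullback (P := @Flat) hpb inferInstance
    have h3 : Surjective ((Over.pullback (Red.geomPt s)).map p).left :=
      MorphismProperty.of_isPullback (P := @Surjective) hpb inferInstance
    exact isSolvableGrp_of_quotient (G := Red.geomFibre s G) (Q := Red.geomFibre s Q)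
      ((Over.pullback (Red.geomPt s)).map p) (hsolv s)
  have hjc : IsClosedImmersion j.left :=
    (S4145.result S Q H hQu hQa hQconn hQsolv j).2 inferInstance
  have hQ : IsAffineHom Q.hom := by
    rw [← Over.w j]
    infer_instance
  rw [← Over.w p]
  infer_instance

end main

section final

variable {S S' : Scheme.{u}}

/-- Unipotent rank zero is stable under base change. -/
theorem urz_bc (f : S' ⟶ S) {G : Over S} [GrpObj G] [Smooth G.hom] [IsSeparated G.hom]
    (hu : SGA3x.UnipotentRankZero G) : SGA3x.UnipotentRankZero (Red.bc f G) := by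
  intro s' T _ i hi
  have h1 := hi.1
  have h2 := hi.2.1
  let e := (Sga3B.BcIso.bcCompIso (Red.geomPt s') f G).symm
  have hi' : Red.IsMaximalTorus (i ≫ (und e).hom) := AlgBc.isMaximalTorus_of_arrow (Iso.refl _) e (by
    change i ≫ (und e).hom = 𝟙 _ ≫ i ≫ (und e).hom
    rw [Category.id_comp]) hi
  have h3 := URZ.selfC _ hu hi'
  refine Sga3.H825.SelfCent.isCentralizerOf_of_selfC hi.2.2.1 (fun X g hg => ?_)
  obtain ⟨z, hz⟩ := h3 X (g ≫ (und e).hom) (fun X' x t => by
    have h4 := congrArg (· ≫ (und e).hom) (hg X' x t)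
    simp only [MonObj.mul_comp, Category.assoc] at h4
    exact h4)
  exact ⟨z, (cancel_mono (und e).hom).mp ((Category.assoc _ _ _).trans hz)⟩

/-- Solvability of the fibre at a point with values in a field. -/
theorem isSolvableGrp_fibre {G : Over S} [GrpObj G]
    (hsolv : ∀ s : S, Red.IsSolvableGrp (Red.bc (S.fromSpecResidueField s) G)) {F : Type u} [Field F]
    (t : Spec (CommRingCat.of F) ⟶ S) : Red.IsSolvableGrp (Red.bc t G) := by
  obtain ⟨a, ha⟩ : ∃ a, a ≫ S.fromSpecResidueField (t (IsLocalRing.closedPoint F)) = t :=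
    ⟨_, Scheme.descResidueField_stalkClosedPointTo_fromSpecResidueField F S t⟩
  have h1 := ParBc.isSolvableGrp_bc a (hsolv (t (IsLocalRing.closedPoint F)))
  exact ParBc.isSolvableGrp_of_iso ((Sga3B.BcIso.bcCompIso a _ G).symm ≪≫ Sga3B.BcIso.bcCongrIso ha G) h1

theorem isAffineHom (G : Over S) [GrpObj G] [Smooth G.hom]
    (haff : ∀ s : S, IsAffine (pullback G.hom (S.fromSpecResidueField s)))
    (hsolv : ∀ s : S, Red.IsSolvableGrp (Red.bc (S.fromSpecResidueField s) G))
    (hconn : ∀ s : S, _root_.IsConnected (G.hom.base ⁻¹' {s})) (hu : SGA3x.UnipotentRankZero G) :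
    IsAffineHom G.hom := by
  obtain ⟨hsep, hqc⟩ := URZ.sep_qc G hconn
  have haff' : Sga3B.AffDvrGrp789.AffFib G.hom := Sga3.H804.DimOne.affFib_of_fibres G.hom haff
  -- Zariski locally there is a representation
  choose U hsU _ m _ _ ρ hρ hc using fun s => CenRep.exists_rep_center G hconn s
  have hU : ⨆ s, U s = ⊤ := top_unique fun s _ => TopologicalSpace.Opens.mem_iSup.2 ⟨s, hsU s⟩
  rw [IsZariskiLocalAtTarget.iff_of_iSup_eq_top (P := @IsAffineHom) U hU]
  intro s
  suffices h : IsAffineHom (pullback.snd G.hom (U s).ι) by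
    have e : G.hom ∣_ U s = (pullbackRestrictIsoRestrict G.hom (U s)).inv ≫ pullback.snd G.hom (U s).ι := by
      rw [Iso.eq_inv_comp, pullbackRestrictIsoRestrict_hom_morphismRestrict]
    rw [e]
    infer_instance
  -- étale locally there is a maximal torus
  have h3 : Smooth (Red.bc (U s).ι G).hom := inferInstanceAs (Smooth (pullback.snd _ _))
  have h4 : QuasiCompact (Red.bc (U s).ι G).hom := inferInstanceAs (QuasiCompact (pullback.snd _ _))
  have h5 : IsSeparated (Red.bc (U s).ι G).hom := inferInstanceAs (IsSeparated (pullback.snd _ _))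
  have hu1 := urz_bc (U s).ι hu
  obtain ⟨S', f, hf, hfs, T, _, i, hi⟩ :=
    Sga3.H804.MtMain.hasMaxTorusEtaleLocally Sga3.H804.FinTC.torusCrit (Red.bc (U s).ι G)
      (haff'.of_isPullback (IsPullback.of_hasPullback G.hom (U s).ι)) hu1
  have h6 := hi.1
  have h7 := hi.2.1
  have k3 : Smooth (Red.bc f (Red.bc (U s).ι G)).hom := inferInstanceAs (Smooth (pullback.snd _ _))
  have k4 : QuasiCompact (Red.bc f (Red.bc (U s).ι G)).hom := inferInstanceAs (QuasiCompact (pullback.snd _ _))
  have k5 : IsSeparated (Red.bc f (Red.bc (U s).ι G)).hom := inferInstanceAs (IsSeparated (pullback.snd _ _))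
  have hconn' := Sga3.H819.CentKer.isConnected_bc f _ (Sga3.H819.CentKer.isConnected_bc (U s).ι G hconn)
  have hu2 := urz_bc f hu1
  have hρs := hρ s
  have k0 : IsAffineHom (Sga3B.GLn.GLS (m s) (U s : Scheme.{u})).hom := inferInstance
  have k0' : LocallyOfFinitePresentation (Sga3B.GLn.GLS (m s) (U s : Scheme.{u})).hom := inferInstance
  have k6 : IsAffineHom (Red.bc f (Sga3B.GLn.GLS (m s) (U s : Scheme.{u}))).hom :=
    MorphismProperty.pullback_snd (P := @IsAffineHom) _ _ k0
  have k7 : LocallyOfFinitePresentation (Red.bc f (Sga3B.GLn.GLS (m s) (U s : Scheme.{u}))).hom :=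
    MorphismProperty.pullback_snd (P := @LocallyOfFinitePresentation) _ _ k0'
  have key : IsAffineHom (Red.bc f (Red.bc (U s).ι G)).hom := by
    refine isAffineHom_of_rep hconn' hu2 (fun s' => ?_) i hi.2.2.1 (URZ.selfC f hu1 hi)
      ((Over.pullback f).map (ρ s)) (fun X x y hx => ?_)
    · exact ParBc.isSolvableGrp_of_iso (Sga3B.BcIso.bcCompIso _ _ _)
        (ParBc.isSolvableGrp_of_iso (Sga3B.BcIso.bcCompIso _ _ _) (isSolvableGrp_fibre hsolv _))
    · refine K18.PbKit.central_bc' (ρ s) (fun X z hz X' x g => ?_) f X x y hx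
      have h8 := (hc s X z).1 hz X' x g
      exact h8
  exact MorphismProperty.of_pullback_snd_of_descendsAlong (P := @IsAffineHom)
    (Q := @Surjective ⊓ @Flat ⊓ @LocallyOfFinitePresentation) (f := pullback.snd G.hom (U s).ι) (g := f)
    ⟨⟨inferInstance, inferInstance⟩, inferInstance⟩ key

end final

end K10.SolvAff
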