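import Groth.Agent.SGA3x.K10.CentPt
import Groth.Agent.SGA3x.K10.MTTors
import Groth.Agent.SGA3x.K10.URZ
import Groth.Agent.Sga3B.NormBc
import Groth.Agent.Flat2B.SmoothGeom
import Mathlib.AlgebraicGeometry.ZariskisMainTheorem

/-!
# Closed normal quasi-finite subgroups of groups whose centre is of multiplicative type are finite
-/

set_option autoImplicit false
universe u
open CategoryTheory MonoidalCategory CartesianMonoidalCategory MonObj GrpObj AlgebraicGeometry Limits

namespace K10.NormFin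

open Groth.Agent Groth.Agent.Sga3B.BcPts K10.CentPt K10.MTTors

variable {S : Scheme.{u}}

/-- the point of the base change attached to a morphism from the spectrum of a field -/
noncomputable def unitIso {S' : Scheme.{u}} (t : S' ⟶ S) : (Over.map t).obj (𝟙_ (Over S')) ≅ Over.mk t :=
  Over.isoMk (Iso.refl _) (by
    change 𝟙 S' ≫ t = 𝟙 S' ≫ t
    rfl)

theorem connectedSpace_of_pt {F : Type u} [Field F] {X : Scheme.{u}} (f : X ⟶ Spec (CommRingCat.of F))
    (h : ∀ s, _root_.IsConnected (f ⁻¹' {s})) : ConnectedSpace X := by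
  let p : Spec (CommRingCat.of F) := IsLocalRing.closedPoint F
  have h1 : _root_.IsConnected (f ⁻¹' {p}) := h p
  have h2 : (f ⁻¹' {p} : Set X) = Set.univ := Set.eq_univ_of_forall fun x =>
    (Subsingleton.elim (α := PrimeSpectrum F) (f x) p : f x = p)
  rw [h2] at h1
  exact connectedSpace_iff_univ.mpr h1

/-- Field-valued points of quasi-finite normal subgroups are central and of finite order. -/
theorem central_torsion {G K : Over S} [GrpObj G] [GrpObj K] [Smooth G.hom]
    (hconn : ∀ s : S, _root_.IsConnected (G.hom.base ⁻¹' {s})) (κ : K ⟶ G) [IsMonHom κ] [Mono κ]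
    (hn : AlgGrp.IsNormalHom κ) [LocallyQuasiFinite K.hom] [QuasiCompact K.hom] {F : Type u} [Field F]
    (t : Spec (CommRingCat.of F) ⟶ S) (c : Over.mk t ⟶ K) :
    IsCentralPt (c ≫ κ) ∧ ∃ n : ℕ, n ≠ 0 ∧ c ^ n = 1 := by
  let e := unitIso t
  let c' : 𝟙_ (Over (Spec (CommRingCat.of F))) ⟶ Red.bc t K := bcEquiv t _ K (e.hom ≫ c)
  have h1 : Smooth (Red.bc t G).hom := inferInstanceAs (Smooth (pullback.snd _ _))
  have h2 : LocallyQuasiFinite (Red.bc t K).hom := inferInstanceAs (LocallyQuasiFinite (pullback.snd _ _))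
  have h3 : QuasiCompact (Red.bc t K).hom := inferInstanceAs (QuasiCompact (pullback.snd _ _))
  have h4 : IsFinite (Red.bc t K).hom := IsFinite.of_locallyQuasiFinite _
  have h5 : IsReduced (Red.bc t G).left := Flat2B.SmoothGeom.isReduced_of_smooth (Red.bc t G).hom
  have h6 : ConnectedSpace (Red.bc t G).left :=
    connectedSpace_of_pt (Red.bc t G).hom (Sga3.H819.CentKer.isConnected_bc t G hconn)
  constructor
  · have h7 := isCentralPt_of_finite ((Over.pullback t).map κ) (Sga3B.NormBc.isNormalHom_bc t κ hn) c'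
    rw [isCentralPt_bc_iff] at h7
    have h8 : (bcEquiv t _ G).symm (c' ≫ (Over.pullback t).map κ) = e.hom ≫ c ≫ κ := by
      rw [bcEquiv_symm_comp, Equiv.symm_apply_apply, Category.assoc]
    rw [h8] at h7
    exact (isCentralPt_iso_comp e (c ≫ κ)).mp h7
  · obtain ⟨n, hn0, hn1⟩ := exists_pow_eq_one (Red.bc t K) c'
    refine ⟨n, hn0, ?_⟩
    have h7 := congrArg (bcMulEquiv t _ K).symm hn1
    rw [map_pow, map_one] at h7
    have h8 : (bcMulEquiv t _ K).symm c' = e.hom ≫ c := Equiv.symm_apply_apply _ _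
    rw [h8, ← MonObj.comp_pow] at h7
    rw [← cancel_epi e.hom, h7, MonObj.comp_one]

/-- The existence part of the valuative criterion for universally closed morphisms. -/
theorem existence_of_universallyClosed {X Y : Scheme.{u}} (f : X ⟶ Y) [UniversallyClosed f] :
    ValuativeCriterion.Existence f := by
  have h : @UniversallyClosed X Y f := inferInstance
  rw [UniversallyClosed.eq_valuativeCriterion] at h
  exact h.1

/-- Lifting along universally closed morphisms. -/
theorem exists_lift_val {X Y : Scheme.{u}} (f : X ⟶ Y) [UniversallyClosed f] {R F : Type u} [CommRing R]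
    [IsDomain R] [ValuationRing R] [Field F] [Algebra R F] [IsFractionRing R F]
    (i₁ : Spec (CommRingCat.of F) ⟶ X) (i₂ : Spec (CommRingCat.of R) ⟶ Y)
    (w : i₁ ≫ f = Spec.map (CommRingCat.ofHom (algebraMap R F)) ≫ i₂) :
    ∃ l : Spec (CommRingCat.of R) ⟶ X, Spec.map (CommRingCat.ofHom (algebraMap R F)) ≫ l = i₁ ∧ l ≫ f = i₂ := by
  obtain ⟨⟨l, hl1, hl2⟩⟩ := existence_of_universallyClosed f
    { R := R, K := F, i₁ := i₁, i₂ := i₂, commSq := ⟨w⟩ }
  exact ⟨l, hl1, hl2⟩

/-- Central points of finite order with values in the fraction field of a valuation ring extend. -/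
theorem exists_extend {G Z : Over S} [GrpObj G] [GrpObj Z] {j : Z ⟶ G} (hZ : Red.IsCentre j)
    (hZm : SGA3x.IsMultTypeFT Z) {R F : Type u} [CommRing R] [IsDomain R] [ValuationRing R] [Field F] [Algebra R F]
    [IsFractionRing R F] (y : Spec (CommRingCat.of R) ⟶ S)
    (c : Over.mk (Spec.map (CommRingCat.ofHom (algebraMap R F)) ≫ y) ⟶ G) (hc : IsCentralPt c) (n : ℕ)
    (hn : n ≠ 0) (hcn : c ^ n = 1) :
    ∃ z : Over.mk y ⟶ Z, (Over.homMk (Spec.map (CommRingCat.ofHom (algebraMap R F))) :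
      Over.mk (Spec.map (CommRingCat.ofHom (algebraMap R F)) ≫ y) ⟶ Over.mk y) ≫ z ≫ j = c := by
  have hj1 : IsMonHom j := hZ.1
  have hj2 : Mono j := hZ.2.1
  obtain ⟨z, hz⟩ := exists_fac_centre hZ hc
  have hzn : z ^ n = 1 := by
    rw [← cancel_mono j, MonObj.pow_comp, hz, hcn, MonObj.one_comp]
  obtain ⟨w, hw⟩ := (exists_fac_iff n z).mpr hzn
  have hfin : IsFinite (tors Z n).hom := isFinite_tors hZm n hn
  obtain ⟨l, hl1, hl2⟩ := exists_lift_val (R := R) (F := F) (tors Z n).hom w.left y (Over.w w)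
  let l' : Over.mk y ⟶ tors Z n := Over.homMk l hl2
  refine ⟨l' ≫ torsι Z n, ?_⟩
  rw [← hz, ← hw]
  simp only [← Category.assoc]
  congr 2
  ext1
  exact hl1

/-- **S5410**. -/
theorem isFinite {G K Z : Over S} [GrpObj G] [GrpObj K] [GrpObj Z] [Smooth G.hom]
    (hconn : ∀ s : S, _root_.IsConnected (G.hom.base ⁻¹' {s})) {j : Z ⟶ G} (hZ : Red.IsCentre j)
    (hZm : SGA3x.IsMultTypeFT Z) (κ : K ⟶ G) [IsMonHom κ] [IsClosedImmersion κ.left]
    (hn : AlgGrp.IsNormalHom κ) [LocallyOfFiniteType K.hom] [QuasiCompact K.hom] [LocallyQuasiFinite K.hom] :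
    IsFinite K.hom := by
  obtain ⟨hsep, hqc⟩ := URZ.sep_qc G hconn
  have hm : Mono κ := (Over.forget S).mono_of_mono_map (inferInstanceAs (Mono κ.left))
  have hE : ValuativeCriterion.Existence K.hom := by
    intro sq
    let y := sq.i₂
    let t : Spec (CommRingCat.of sq.K) ⟶ S := Spec.map (CommRingCat.ofHom (algebraMap sq.R sq.K)) ≫ y
    let c : Over.mk t ⟶ K := Over.homMk sq.i₁ sq.commSq.w
    obtain ⟨h1, n, hn0, hn1⟩ := central_torsion hconn κ hn t c
    obtain ⟨z, hz⟩ := exists_extend hZ hZm y (c ≫ κ) h1 n hn0 (by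
      rw [← MonObj.pow_comp, hn1, MonObj.one_comp])
    obtain ⟨l, hl1, hl2⟩ := exists_lift_val (R := sq.R) (F := sq.K) κ.left sq.i₁ (z ≫ j).left
      (congrArg (fun f => f.left) hz).symm
    have e1 : l ≫ κ.left ≫ G.hom = y := by
      rw [← Category.assoc, hl2]
      exact Over.w (z ≫ j)
    exact ⟨⟨l, hl1, (congrArg (l ≫ ·) (Over.w κ).symm).trans e1⟩⟩
  have hs : IsSeparated K.hom := by rw [← Over.w κ]; infer_instance
  have : UniversallyClosed K.hom := UniversallyClosed.of_valuativeCriterion K.hom hE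
  have : IsProper K.hom := {}
  exact IsFinite.of_isProper_of_locallyQuasiFinite K.hom

end K10.NormFin
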