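import Groth.Agent.SGA3x.K10.NormFin
import Groth.Agent.S5315
import Groth.Agent.Ega3B.FibreSpread

/-!
# Closed normal subgroups with finite / trivial fibre at a point
-/

set_option autoImplicit false
universe u
open CategoryTheory MonoidalCategory CartesianMonoidalCategory MonObj GrpObj AlgebraicGeometry Limits

namespace K10.NormNhd

open Groth.Agent Groth.Agent.Sga3B.BcPts K10.CentPt K10.MTTors K10.NormFin

variable {S : Scheme.{u}}

lemma lqf_bc_of_forall {X Y : Scheme.{u}} (f : X ⟶ Y) (U : Y.Opens)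
    (h : ∀ x, f x ∈ U → ∃ W : X.Opens, x ∈ W ∧ LocallyQuasiFinite (W.ι ≫ f)) :
    LocallyQuasiFinite (pullback.snd f U.ι) := by
  have key : ∀ z : ↥(pullback f U.ι), ∃ W' : (pullback f U.ι).Opens, z ∈ W' ∧
      LocallyQuasiFinite (W'.ι ≫ pullback.snd f U.ι) := by
    intro z
    have hz : f (pullback.fst f U.ι z) ∈ U := by
      rw [← Scheme.Hom.comp_apply, pullback.condition, Scheme.Hom.comp_apply]
      exact (pullback.snd f U.ι z).2
    obtain ⟨W, hW, hq⟩ := h _ hz
    refine ⟨pullback.fst f U.ι ⁻¹ᵁ W, hW, ?_⟩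
    have e1 : ((pullback.fst f U.ι ⁻¹ᵁ W).ι ≫ pullback.snd f U.ι) ≫ U.ι =
        (pullback.fst f U.ι ∣_ W) ≫ W.ι ≫ f := by
      rw [Category.assoc, ← pullback.condition, morphismRestrict_ι_assoc]
    have h1 : LocallyQuasiFinite (pullback.fst f U.ι ∣_ W) := inferInstance
    have h2 : LocallyQuasiFinite (((pullback.fst f U.ι ⁻¹ᵁ W).ι ≫ pullback.snd f U.ι) ≫ U.ι) := by
      rw [e1]; infer_instance
    exact LocallyQuasiFinite.of_comp _ U.ι
  choose W hW hq using key
  exact IsZariskiLocalAtSource.of_iSup_eq_top W (by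
    rw [eq_top_iff]
    intro z _
    exact TopologicalSpace.Opens.mem_iSup.mpr ⟨z, hW z⟩) hq

/-- A group scheme is locally quasi-finite near a point over which its fibre is finite. -/
theorem exists_lqf_nhd (K : Over S) [GrpObj K] [LocallyOfFiniteType K.hom] (s : S)
    (h : LocallyQuasiFinite (Red.bc (S.fromSpecResidueField s) K).hom) :
    ∃ U : S.Opens, s ∈ U ∧ LocallyQuasiFinite (Red.bc U.ι K).hom := by
  have h0 : (toUnit K).left = K.hom := by
    have := Over.w (toUnit K)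
    exact (Category.comp_id _).symm.trans this
  have hlft : LocallyOfFiniteType (toUnit K).left := by rw [h0]; infer_instance
  have hfib : ∀ s : S, LocallyOfFiniteType (K.hom.fiberToSpecResidueField s) := fun s =>
    inferInstanceAs (LocallyOfFiniteType (pullback.snd _ _))
  obtain ⟨h1, h2⟩ := S5315.result S K (𝟙_ (Over S)) (toUnit K) hfib
  let U : S.Opens := ⟨_, h1⟩
  refine ⟨U, ?_, ?_⟩
  · change LocallyQuasiFinite ((Over.pullback (S.fromSpecResidueField s)).map (toUnit K)).left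
    have e1 := Over.w ((Over.pullback (S.fromSpecResidueField s)).map (toUnit K))
    have e2 : LocallyQuasiFinite (((Over.pullback (S.fromSpecResidueField s)).map (toUnit K)).left ≫
        ((Over.pullback (S.fromSpecResidueField s)).obj (𝟙_ (Over S))).hom) := by rw [e1]; exact h
    exact LocallyQuasiFinite.of_comp _ ((Over.pullback (S.fromSpecResidueField s)).obj (𝟙_ (Over S))).hom
  · refine lqf_bc_of_forall K.hom U fun x hx => ?_
    have h3 : x ∈ {x : K.left | ∃ W : K.left.Opens, x ∈ W ∧ LocallyQuasiFinite (W.ι ≫ (toUnit K).left)} := by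
      rw [h2]; exact hx
    obtain ⟨W, hW, hq⟩ := h3
    exact ⟨W, hW, by rw [← h0]; exact hq⟩

/-- First assertion of S5411. -/
theorem exists_isFinite {G K Z : Over S} [GrpObj G] [GrpObj K] [GrpObj Z] [Smooth G.hom]
    (hconn : ∀ s : S, _root_.IsConnected (G.hom.base ⁻¹' {s})) {j : Z ⟶ G} (hZ : Red.IsCentre j)
    (hZm : SGA3x.IsMultTypeFT Z) (κ : K ⟶ G) [IsMonHom κ] [IsClosedImmersion κ.left]
    (hn : AlgGrp.IsNormalHom κ) [LocallyOfFiniteType K.hom] [QuasiCompact K.hom] (s : S)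
    (h : LocallyQuasiFinite (Red.bc (S.fromSpecResidueField s) K).hom) :
    ∃ U : S.Opens, s ∈ U ∧ IsFinite (Red.bc U.ι K).hom := by
  obtain ⟨U, hsU, hq⟩ := exists_lqf_nhd K s h
  refine ⟨U, hsU, ?_⟩
  have h1 : Smooth (Red.bc U.ι G).hom := inferInstanceAs (Smooth (pullback.snd _ _))
  have h2 : LocallyOfFiniteType (Red.bc U.ι K).hom := inferInstanceAs (LocallyOfFiniteType (pullback.snd _ _))
  have h3 : QuasiCompact (Red.bc U.ι K).hom := inferInstanceAs (QuasiCompact (pullback.snd _ _))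
  have h4 : IsClosedImmersion ((Over.pullback U.ι).map κ).left :=
    MorphismProperty.of_isPullback (Sga3.H798.FpqcIso.isPullback_map_left U.ι κ) ‹_›
  exact isFinite (Sga3.H819.CentKer.isConnected_bc U.ι G hconn) (URZ.isCentre_bc U.ι hZ) (MTLoc.bc U.ι hZm)
    ((Over.pullback U.ι).map κ) (Sga3B.NormBc.isNormalHom_bc U.ι κ hn)

/-- A finite group scheme which is trivial over a point is trivial near this point. -/
theorem exists_trivial {X Y : Scheme.{u}} (f : X ⟶ Y) [IsFinite f] (e : Y ⟶ X) (he : e ≫ f = 𝟙 Y) (y : Y)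
    (h : IsIso (f.fiberToSpecResidueField y)) : ∃ V : Y.Opens, y ∈ V ∧ IsIso (f ∣_ V) := by
  obtain ⟨V, hy, hV⟩ := Ega3B.FibreSpread.exists_isClosedImmersion_near f y inferInstance
  refine ⟨V, hy, ?_⟩
  let e' : (V : Scheme.{u}) ⟶ (f ⁻¹ᵁ V : X.Opens) := IsOpenImmersion.lift (f ⁻¹ᵁ V).ι (V.ι ≫ e) (by
    rw [Scheme.Opens.range_ι]
    rintro _ ⟨v, rfl⟩
    change f ((V.ι ≫ e) v) ∈ V
    rw [← Scheme.Hom.comp_apply, Category.assoc, he, Category.comp_id]
    exact v.2)
  have he' : e' ≫ f ∣_ V = 𝟙 _ := by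
    rw [← cancel_mono V.ι, Category.assoc, morphismRestrict_ι, IsOpenImmersion.lift_fac_assoc,
      Category.assoc, he, Category.comp_id, Category.id_comp]
  have : IsSplitEpi (f ∣_ V) := ⟨⟨⟨e', he'⟩⟩⟩
  exact isIso_of_mono_of_isSplitEpi _

lemma isIso_snd_comp {X Y Z W : Scheme.{u}} (f : X ⟶ Y) (g : Z ⟶ Y) (θ : W ⟶ Z) [IsIso (pullback.snd f g)] :
    IsIso (pullback.snd f (θ ≫ g)) := by
  have e : pullback.snd f (θ ≫ g) = (pullbackLeftPullbackSndIso f g θ).inv ≫ pullback.snd (pullback.snd f g) θ := by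
    rw [Iso.eq_inv_comp, pullbackLeftPullbackSndIso_hom_snd]
  rw [e]
  infer_instance

/-- Second assertion of S5411. -/
theorem exists_isTrivial {G K Z : Over S} [GrpObj G] [GrpObj K] [GrpObj Z] [Smooth G.hom]
    (hconn : ∀ s : S, _root_.IsConnected (G.hom.base ⁻¹' {s})) {j : Z ⟶ G} (hZ : Red.IsCentre j)
    (hZm : SGA3x.IsMultTypeFT Z) (κ : K ⟶ G) [IsMonHom κ] [IsClosedImmersion κ.left]
    (hn : AlgGrp.IsNormalHom κ) [LocallyOfFiniteType K.hom] [QuasiCompact K.hom] (s : S)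
    (h : Red.IsTrivialGrp (Red.bc (S.fromSpecResidueField s) K)) :
    ∃ U : S.Opens, s ∈ U ∧ Red.IsTrivialGrp (Red.bc U.ι K) := by
  have h0 : IsIso (Red.bc (S.fromSpecResidueField s) K).hom := h
  obtain ⟨U, hsU, hU⟩ := exists_isFinite hconn hZ hZm κ hn s inferInstance
  let s' : (U : Scheme.{u}) := ⟨s, hsU⟩
  -- the fibre of `K|U` at `s'`
  have hfib : IsIso ((Red.bc U.ι K).hom.fiberToSpecResidueField s') := by
    change IsIso (pullback.snd (pullback.snd K.hom U.ι) ((U : Scheme.{u}).fromSpecResidueField s'))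
    have e1 : (U : Scheme.{u}).fromSpecResidueField s' ≫ U.ι =
        Spec.map (U.ι.residueFieldMap s') ≫ S.fromSpecResidueField s :=
      (Scheme.Hom.SpecMap_residueFieldMap_fromSpecResidueField U.ι s').symm
    have h1 : IsIso (pullback.snd K.hom (S.fromSpecResidueField s)) := h0
    have h2 : IsIso (pullback.snd K.hom ((U : Scheme.{u}).fromSpecResidueField s' ≫ U.ι)) := by
      rw [e1]
      exact isIso_snd_comp K.hom (S.fromSpecResidueField s) (Spec.map (U.ι.residueFieldMap s'))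
    rw [← pullbackLeftPullbackSndIso_hom_snd]
    infer_instance
  have he : (η[Red.bc U.ι K] : 𝟙_ (Over (U : Scheme.{u})) ⟶ _).left ≫ (Red.bc U.ι K).hom = 𝟙 _ := Over.w _
  obtain ⟨V, hV, hVi⟩ := exists_trivial (Red.bc U.ι K).hom
    (η[Red.bc U.ι K] : 𝟙_ (Over (U : Scheme.{u})) ⟶ _).left he s' hfib
  have h3 : IsIso (pullback.snd (Red.bc U.ι K).hom V.ι) := by
    have e1 : pullback.snd (Red.bc U.ι K).hom V.ι = (pullbackRestrictIsoRestrict (Red.bc U.ι K).hom V).hom ≫
        (Red.bc U.ι K).hom ∣_ V := (pullbackRestrictIsoRestrict_hom_morphismRestrict _ _).symm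
    rw [e1]
    infer_instance
  have h4 : IsIso (pullback.snd K.hom (V.ι ≫ U.ι)) := by
    have e1 : pullback.snd K.hom (V.ι ≫ U.ι) = (pullbackLeftPullbackSndIso K.hom U.ι V.ι).inv ≫
        pullback.snd (pullback.snd K.hom U.ι) V.ι := by
      rw [Iso.eq_inv_comp, pullbackLeftPullbackSndIso_hom_snd]
    have h5 : IsIso (pullback.snd (pullback.snd K.hom U.ι) V.ι) := h3
    rw [e1]
    infer_instance
  have hr : Set.range (U.ι ''ᵁ V).ι ⊆ Set.range (V.ι ≫ U.ι) := by
    rw [Scheme.Opens.range_ι]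
    rintro _ ⟨v, hv, rfl⟩
    exact ⟨⟨v, hv⟩, rfl⟩
  refine ⟨U.ι ''ᵁ V, ⟨s', hV, rfl⟩, ?_⟩
  change IsIso (pullback.snd K.hom (U.ι ''ᵁ V).ι)
  rw [← IsOpenImmersion.lift_fac (V.ι ≫ U.ι) (U.ι ''ᵁ V).ι hr]
  exact isIso_snd_comp K.hom (V.ι ≫ U.ι) _

end K10.NormNhd
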