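import Groth.Agent.SGA3x.K10.AffDimOne
import Groth.Agent.Sga3.H804.FamAff
import Mathlib.AlgebraicGeometry.Noetherian
import Mathlib.CategoryTheory.Monoidal.Cartesian.Over

/-!
# Quasi-finite separated morphisms with finite fibres over a base of dimension at most one are affine: the general case
-/

set_option autoImplicit false
universe u
open CategoryTheory CategoryTheory.Limits AlgebraicGeometry

namespace K10.AffDimTwo

open K10.AffDimOne

/-- The case of an affine noetherian base. -/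
theorem isAffine_noeth {R : Type u} [CommRing R] [IsNoetherianRing R] [Ring.KrullDimLE 1 R]
    {X Y : Scheme.{u}} [IsAffine Y] (u : X ⟶ Y) (g : Y ⟶ Spec (CommRingCat.of R))
    [LocallyQuasiFinite u] [LocallyOfFiniteType u] [IsSeparated u] [QuasiCompact u] (h : FinFib u g) :
    IsAffine X := by
  let ι : Type u := minimalPrimes R
  have hfin : Finite ι := minimalPrimes.finite_of_isNoetherianRing R
  have hP : ∀ i : ι, i.1.IsPrime := fun i => Ideal.IsMinimalPrime.isPrime i.2
  have hdom : ∀ i : ι, IsDomain (R ⧸ i.1) := fun i => by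
    have := hP i
    infer_instance
  have hdim : ∀ i : ι, Ring.KrullDimLE 1 (R ⧸ i.1) := fun i => by
    rw [Ring.krullDimLE_iff]
    exact (ringKrullDim_quotient_le i.1).trans (Ring.krullDimLE_iff.mp inferInstance)
  refine Groth.Agent.Sga3.H804.FamAff.isAffine_of_family (fun i : ι => R ⧸ i.1) (fun p => ?_) (u ≫ g) fun i => ?_
  · obtain ⟨P, hP1, hP2⟩ := Ideal.exists_minimalPrimes_le (I := ⊥) (J := p.asIdeal) bot_le
    refine ⟨⟨P, hP1⟩, ?_⟩
    change p ∈ Set.range (PrimeSpectrum.comap (Ideal.Quotient.mk P))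
    rw [range_comap_of_surjective _ _ Ideal.Quotient.mk_surjective, Ideal.mk_ker]
    exact hP2
  · have := hdom i
    have := hdim i
    let b : Spec (CommRingCat.of (R ⧸ i.1)) ⟶ Spec (CommRingCat.of R) :=
      Spec.map (CommRingCat.ofHom (algebraMap R (R ⧸ i.1)))
    let a : pullback g b ⟶ Y := pullback.fst g b
    have hY : IsAffine (pullback g b) := inferInstance
    have h1 : IsAffine (pullback u a) :=
      isAffine_domain (pullback.snd u a) (pullback.snd g b) (h.bc pullback.condition)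
    have h2 : IsPullback (pullback.fst u a) (pullback.snd u a ≫ pullback.snd g b) (u ≫ g) b :=
      (IsPullback.of_hasPullback u a).paste_vert (IsPullback.of_hasPullback g b)
    exact .of_isIso h2.isoPullback.inv

/-- **The general case.** -/
theorem isAffineHom {S : Scheme.{u}} [IsLocallyNoetherian S] (hdim : topologicalKrullDim ↥S ≤ 1)
    {X Y : Scheme.{u}} (u : X ⟶ Y) (g : Y ⟶ S)
    [LocallyQuasiFinite u] [LocallyOfFiniteType u] [IsSeparated u] [QuasiCompact u] (h : FinFib u g) :
    IsAffineHom u := by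
  refine IsZariskiLocalAtTarget.of_forall_exists_morphismRestrict (P := @IsAffineHom) fun y => ?_
  obtain ⟨U, hU, hyU⟩ : ∃ U : S.Opens, IsAffineOpen U ∧ g y ∈ U := by
    obtain ⟨_, ⟨U, hU, rfl⟩, hyU, -⟩ :=
      S.isBasis_affineOpens.exists_subset_of_mem_open (Set.mem_univ (g y)) isOpen_univ
    exact ⟨U, hU, hyU⟩
  obtain ⟨V, hV, hyV, hVU⟩ : ∃ V : Y.Opens, IsAffineOpen V ∧ y ∈ V ∧ V ≤ g ⁻¹ᵁ U := by
    obtain ⟨_, ⟨V, hV, rfl⟩, hyV, hVU⟩ :=
      Y.isBasis_affineOpens.exists_subset_of_mem_open (show y ∈ (g ⁻¹ᵁ U : Set Y) from hyU) (g ⁻¹ᵁ U).2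
    exact ⟨V, hV, hyV, hVU⟩
  refine ⟨V, hyV, ?_⟩
  let R := Γ(S, U)
  let q : Spec (CommRingCat.of R) ⟶ S := hU.fromSpec
  have hq : IsOpenImmersion q := inferInstanceAs (IsOpenImmersion hU.fromSpec)
  have hN : IsNoetherianRing R := IsLocallyNoetherian.component_noetherian ⟨U, hU⟩
  have hdim' : topologicalKrullDim (Spec (CommRingCat.of R)) ≤ 1 :=
    q.isOpenEmbedding.isInducing.topologicalKrullDim_le.trans hdim
  have hdim2 : Ring.KrullDimLE 1 R := by
    rw [Ring.krullDimLE_iff, ← PrimeSpectrum.topologicalKrullDim_eq_ringKrullDim]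
    exact hdim'
  let gV : (V : Scheme.{u}) ⟶ Spec (CommRingCat.of R) := IsOpenImmersion.lift q (V.ι ≫ g) (by
    rintro _ ⟨v, rfl⟩
    have h1 : Set.range q = (U : Set S) := hU.range_fromSpec
    rw [h1]
    exact hVU v.2)
  have hgV : gV ≫ q = V.ι ≫ g := IsOpenImmersion.lift_fac _ _ _
  have hVa : IsAffine (V : Scheme.{u}) := hV
  have h1 : IsAffine (pullback u V.ι) :=
    @isAffine_noeth R _ hN hdim2 _ _ hVa (pullback.snd u V.ι) gV _ _ _ _ (h.bc hgV.symm)
  have h2 : IsAffineHom (pullback.snd u V.ι) := inferInstance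
  have h3 : (u ∣_ V) = (pullbackRestrictIsoRestrict u V).inv ≫ pullback.snd u V.ι := rfl
  rw [h3]
  infer_instance

end K10.AffDimTwo
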