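import Groth.Agent.Sga3.H819.CentKer

/-!
# Linear representations whose kernel is exactly the centre, locally on any base

`exists_rep_center`: `G` a smooth separated quasi-compact group scheme with connected fibres over any base `S`:
Zariski-locally on `S` there is a homomorphism `G ⟶ GL_m` whose kernel is the centre of `G`.
-/

set_option autoImplicit false

universe u

open CategoryTheory MonoidalCategory CartesianMonoidalCategory AlgebraicGeometry MonObj GrpObj Limits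

namespace K10.CenRep

open Groth.Agent Sga3B.GLn Sga3B.BcPts Sga3B.AdRep Sga3.H819 Sga3.H819.BcGL

variable {S S' : Scheme.{u}} {m : Type u} [Fintype m] [DecidableEq m]

/-- The kernel of `f` is the centre of `G`. -/
def CKer {G H : Over S} [GrpObj G] [GrpObj H] (f : G ⟶ H) : Prop :=
  ∀ (T : Over S) (g : T ⟶ G), g ≫ f = 1 ↔
    ∀ (T' : Over S) (t : T' ⟶ T) (h : T' ⟶ G), (t ≫ g) * h = h * (t ≫ g)

theorem CKer.central {G H : Over S} [GrpObj G] [GrpObj H] {f : G ⟶ H} (h : CKer f) : Central f :=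
  fun T g hg => (h T g).1 hg

/-- Base change keeps the property. -/
theorem cker_bc {q : S' ⟶ S} {G : Over S} [GrpObj G] {f : G ⟶ GLS m S} {f' : Red.bc q G ⟶ GLS m S'}
    (h : ∀ (T : Over S') (g : T ⟶ Red.bc q G), mat (g ≫ f') = matO q ((bcEquiv q T G).symm g ≫ f))
    (hf : CKer f) : CKer f' := by
  intro T g
  refine ⟨fun hg => central_bc h hf.central T g hg, fun hg => ?_⟩
  rw [comp_eq_one_iff h g, hf]
  intro T' t x
  let c : T'.left ⟶ S' := t.left ≫ T.hom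
  let T₁ : Over S' := Over.mk c
  let t₁ : T₁ ⟶ T := Over.homMk t.left rfl
  let e : (Over.map q).obj T₁ ≅ T' := Over.isoMk (Iso.refl _) (by
    have := Over.w t
    simp only [T₁, c, Over.map_obj_hom, Over.mk_hom, Iso.refl_hom, Category.id_comp]
    rw [← this]
    simp)
  have he : (Over.map q).map t₁ = e.hom ≫ t := by
    ext1
    simp [e, t₁]
  have h1 := hg T₁ t₁ (bcEquiv q T₁ G (e.hom ≫ x))
  have h2 := congrArg (bcMulEquiv q T₁ G).symm h1
  rw [map_mul, map_mul] at h2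
  have h3 : (bcMulEquiv q T₁ G).symm (t₁ ≫ g) = e.hom ≫ t ≫ (bcEquiv q T G).symm g := by
    rw [← Category.assoc, ← he]
    exact comp_bcEquiv_symm q t₁ g
  have h4 : (bcMulEquiv q T₁ G).symm (bcEquiv q T₁ G (e.hom ≫ x)) = e.hom ≫ x :=
    (bcEquiv q T₁ G).symm_apply_apply _
  rw [h3, h4, ← MonObj.comp_mul, ← MonObj.comp_mul] at h2
  exact (cancel_epi e.hom).mp h2

/-- Transport along an isomorphism of groups. -/
theorem cker_of_iso {G G' H : Over S} [GrpObj G] [GrpObj G'] [GrpObj H] {f : G ⟶ H} (hf : CKer f)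
    (e : Grp.mk G' ≅ Grp.mk G) : CKer (e.hom.hom.hom ≫ f) := by
  intro T g
  refine ⟨fun hg => central_of_iso hf.central e T g hg, fun hg => ?_⟩
  have hmon : IsMonHom e.hom.hom.hom := e.hom.hom.isMonHom_hom
  rw [← Category.assoc, hf]
  intro T' t x
  have h1 := hg T' t (x ≫ e.inv.hom.hom)
  have h2 := congrArg (· ≫ e.hom.hom.hom) h1
  simp only [MonObj.mul_comp, Category.assoc] at h2
  have h3 : e.inv.hom.hom ≫ e.hom.hom.hom = 𝟙 G := congrArg (fun k => k.hom.hom) e.inv_hom_id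
  rw [h3, Category.comp_id] at h2
  exact h2

/-- The noetherian case. -/
theorem exists_rep_noeth {R : Type u} [CommRing R] [IsNoetherianRing R] (G : Over (Spec (CommRingCat.of R)))
    [GrpObj G] [Smooth G.hom] [QuasiCompact G.hom] [IsSeparated G.hom]
    (hconn : ∀ s, _root_.IsConnected (G.hom ⁻¹' {s})) (s : Spec (CommRingCat.of R)) :
    ∃ (R' : Type u) (_ : CommRing R') (q : Spec (CommRingCat.of R') ⟶ Spec (CommRingCat.of R)),
      IsOpenImmersion q ∧ s ∈ Set.range q ∧ ∃ (m : Type u) (_ : Fintype m) (_ : DecidableEq m)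
        (f : Red.bc q G ⟶ GLS m (Spec (CommRingCat.of R'))), IsMonHom f ∧ CKer f := by
  obtain ⟨R', B, _, _, _, q, w, eW, hq, hs, hst, hw, heW⟩ := Sga3B.AdAff.exists_chart G s
  obtain ⟨ε, -, hε⟩ := Sga3B.CentralTorus.exists_augHom eW
  have haug : augIdeal eW = RingHom.ker ε := Ideal.ext hε
  have hfree : ∀ n, Module.Free R' (B ⧸ augIdeal eW ^ n) ∧ Module.Finite R' (B ⧸ augIdeal eW ^ n) := by
    intro n
    rw [haug]
    exact Sga3.H813.FreePow.free_pow ε n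
  have hn : IsNoetherianRing R' := by
    have h1 : IsLocallyNoetherian (Spec (CommRingCat.of R)) := inferInstance
    have h2 : IsLocallyNoetherian (Spec (CommRingCat.of R')) := isLocallyNoetherian_of_isOpenImmersion q
    exact isLocallyNoetherian_Spec.1 h2
  have hgi : GeometricallyIrreducible G.hom := by
    have : GrpObj (Over.mk G.hom) := ‹GrpObj G›
    exact Sga3C.GrpIrr.geometricallyIrreducible_of_connected_fibres G.hom hconn
  have h0 : Smooth (Red.bc q G).hom := inferInstanceAs (Smooth (pullback.snd _ _))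
  have h1 : QuasiCompact (Red.bc q G).hom := inferInstanceAs (QuasiCompact (pullback.snd _ _))
  have h2 : IsSeparated (Red.bc q G).hom := inferInstanceAs (IsSeparated (pullback.snd _ _))
  have h3 : GeometricallyIrreducible (Red.bc q G).hom :=
    inferInstanceAs (GeometricallyIrreducible (pullback.snd _ _))
  obtain ⟨m, i1, i2, f, hf, hker⟩ := CentRep.exists_rep_center w eW heW
    (fun n => (hfree (n + 1)).1) (fun n => (hfree (n + 1)).2)
  exact ⟨R', inferInstance, q, hq, hs, m, i1, i2, f, hf, hker⟩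

/-- Transport of a linear representation with kernel the centre. -/
theorem transfer {S S₁ S₀ S' U : Scheme.{u}} (u : U ⟶ S) (u₁ : U ⟶ S₁) (q₁ : S₁ ⟶ S) (hu₁ : u₁ ≫ q₁ = u)
    (t : S₁ ⟶ S₀) (u₀ : U ⟶ S') (q₀ : S' ⟶ S₀) (hu₀ : u₀ ≫ q₀ = u₁ ≫ t) (G : Over S) [GrpObj G]
    (G₀ : Over S₀) [GrpObj G₀] (e : Grp.mk (Red.bc t G₀) ≅ Grp.mk (Red.bc q₁ G))
    {m : Type u} [Fintype m] [DecidableEq m] (f₀ : Red.bc q₀ G₀ ⟶ GLS m S') [IsMonHom f₀] (hc₀ : CKer f₀) :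
    ∃ ρ : Red.bc u G ⟶ GLS m U, IsMonHom ρ ∧ CKer ρ := by
  obtain ⟨E⟩ : Nonempty (Grp.mk (Red.bc u G) ≅ Grp.mk (Red.bc u₀ (Red.bc q₀ G₀))) :=
    ⟨Sga3B.BcIso.bcCongrIso hu₁.symm G ≪≫ Sga3B.BcIso.bcCompIso u₁ q₁ G ≪≫
      Sga3B.BcIso.bcMapIso u₁ e.symm ≪≫ (Sga3B.BcIso.bcCompIso u₁ t G₀).symm ≪≫
      Sga3B.BcIso.bcCongrIso hu₀.symm G₀ ≪≫ Sga3B.BcIso.bcCompIso u₀ q₀ G₀⟩
  obtain ⟨f', hf', hmat⟩ := exists_bc u₀ f₀
  have hc' : CKer f' := cker_bc hmat hc₀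
  have hc := cker_of_iso hc' E
  have hE : IsMonHom E.hom.hom.hom := E.hom.hom.isMonHom_hom
  exact ⟨E.hom.hom.hom ≫ f', inferInstance, hc⟩

/-- The case of an affine base. -/
theorem exists_of_ring {R₁ : Type u} [CommRing R₁] (G₁ : Over (Spec (CommRingCat.of R₁))) [GrpObj G₁]
    [Smooth G₁.hom] [QuasiCompact G₁.hom] [IsSeparated G₁.hom]
    (hconn₁ : ∀ s, _root_.IsConnected (G₁.hom ⁻¹' {s})) (s₁ : Spec (CommRingCat.of R₁)) :
    ∃ (S₀ S' : Scheme.{u}) (t : Spec (CommRingCat.of R₁) ⟶ S₀) (q₀ : S' ⟶ S₀) (_ : IsOpenImmersion q₀)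
      (G₀ : Over S₀) (_ : GrpObj G₀) (_ : Grp.mk (Red.bc t G₀) ≅ Grp.mk G₁) (m : Type u) (_ : Fintype m)
      (_ : DecidableEq m) (f₀ : Red.bc q₀ G₀ ⟶ GLS m S'), IsMonHom f₀ ∧ CKer f₀ ∧
      t s₁ ∈ Set.range q₀ := by
  obtain ⟨R₀, G₀, hG₀, hfg, h5, h6, h7, h8, ⟨e⟩⟩ := Sga3.H806.ApproxConn.exists_noetherian_conn G₁ hconn₁
  have hn : IsNoetherianRing R₀ := by
    have : Algebra.FiniteType ℤ R₀ := (Subalgebra.fg_iff_finiteType R₀).1 hfg
    exact Algebra.FiniteType.isNoetherianRing ℤ R₀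
  obtain ⟨R', _, q₀, hq₀, hs₀, m, i1, i2, f₀, hf₀, hc₀⟩ := exists_rep_noeth G₀ h8
    ((Spec.map (CommRingCat.ofHom R₀.val.toRingHom)) s₁)
  exact ⟨_, _, Spec.map (CommRingCat.ofHom R₀.val.toRingHom), q₀, hq₀, G₀, hG₀, e, m, i1, i2, f₀, hf₀, hc₀, hs₀⟩

/-- **Linear representations with kernel the centre**, Zariski-locally on any base. -/
theorem exists_rep_center {S : Scheme.{u}} (G : Over S) [GrpObj G] [Smooth G.hom] [QuasiCompact G.hom]
    [IsSeparated G.hom] (hconn : ∀ s : S, _root_.IsConnected (G.hom.base ⁻¹' {s})) (s : S) :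
    ∃ U : S.Opens, s ∈ U ∧ IsAffineOpen U ∧ ∃ (m : Type u) (_ : Fintype m) (_ : DecidableEq m)
      (ρ : Red.bc U.ι G ⟶ Sga3B.GLn.GLS m (U : Scheme.{u})), IsMonHom ρ ∧ CKer ρ := by
  -- an affine neighbourhood
  obtain ⟨R₁, _, q₁, hq₁, s₁, hs₁⟩ : ∃ (R₁ : Type u) (_ : CommRing R₁) (q₁ : Spec (CommRingCat.of R₁) ⟶ S),
      IsOpenImmersion q₁ ∧ s ∈ Set.range q₁ := by
    obtain ⟨_, ⟨U₁, hU₁, rfl⟩, hs₁, -⟩ :=
      S.isBasis_affineOpens.exists_subset_of_mem_open (Set.mem_univ s) isOpen_univ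
    have hU₁ : IsAffineOpen U₁ := hU₁
    refine ⟨Γ(S, U₁), inferInstance, hU₁.fromSpec, inferInstance, ?_⟩
    rw [hU₁.range_fromSpec]
    exact hs₁
  have h0 : Smooth (Red.bc q₁ G).hom := inferInstanceAs (Smooth (pullback.snd _ _))
  have h1 : QuasiCompact (Red.bc q₁ G).hom := inferInstanceAs (QuasiCompact (pullback.snd _ _))
  have h2 : IsSeparated (Red.bc q₁ G).hom := inferInstanceAs (IsSeparated (pullback.snd _ _))
  obtain ⟨S₀, S', t, q₀, hq₀, G₀, hG₀, e, m, i1, i2, f₀, hf₀, hc₀, hs₀⟩ :=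
    exists_of_ring (Red.bc q₁ G) (CentKer.isConnected_bc q₁ G hconn) s₁
  -- the neighbourhood
  let V : S.Opens := q₁ ''ᵁ (t ⁻¹ᵁ q₀.opensRange)
  have hsV : s ∈ V := ⟨s₁, hs₀, hs₁⟩
  obtain ⟨U, hU, hsU, hUV⟩ : ∃ U : S.Opens, IsAffineOpen U ∧ s ∈ U ∧ ∀ x ∈ U, ∃ z, t z ∈ Set.range q₀ ∧ q₁ z = x := by
    obtain ⟨_, ⟨U, hU, rfl⟩, hsU, hUV⟩ :=
      S.isBasis_affineOpens.exists_subset_of_mem_open hsV V.isOpen
    refine ⟨U, hU, hsU, fun x hx => ?_⟩
    obtain ⟨z, hz, hzx⟩ := hUV hx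
    exact ⟨z, hz, hzx⟩
  have hr₁ : Set.range U.ι ⊆ Set.range q₁ := by
    rw [Scheme.Opens.range_ι]
    intro x hx
    obtain ⟨z, -, hz⟩ := hUV x hx
    exact ⟨z, hz⟩
  obtain ⟨u₁, hu₁⟩ : ∃ u₁ : (U : Scheme.{u}) ⟶ Spec (CommRingCat.of R₁), u₁ ≫ q₁ = U.ι :=
    ⟨IsOpenImmersion.lift q₁ U.ι hr₁, IsOpenImmersion.lift_fac _ _ _⟩
  have hr₀ : Set.range (u₁ ≫ t) ⊆ Set.range q₀ := by
    rintro _ ⟨x, rfl⟩
    obtain ⟨z, hz, hzx⟩ := hUV x.1 x.2
    have h9 : u₁ x = z := by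
      apply q₁.injective
      rw [hzx, ← Scheme.Hom.comp_apply, hu₁]
      rfl
    rw [Scheme.Hom.comp_apply, h9]
    exact hz
  obtain ⟨ρ, hρ, hc⟩ := transfer U.ι u₁ q₁ hu₁ t (IsOpenImmersion.lift q₀ (u₁ ≫ t) hr₀) q₀
    (IsOpenImmersion.lift_fac _ _ _) G G₀ e f₀ hc₀
  exact ⟨U, hsU, hU, m, i1, i2, ρ, hρ, hc⟩

end K10.CenRep
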