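import Groth.Agent.Grpsch.ClosureImage
import Mathlib.AlgebraicGeometry.ZariskisMainTheorem
import Mathlib.AlgebraicGeometry.Morphisms.Proper
import Mathlib.Topology.KrullDimension
import Mathlib.RingTheory.Spectrum.Prime.Topology
import Mathlib.RingTheory.KrullDimension.Zero

/-!
# Quasi-finite separated morphisms with finite fibres over a base of dimension at most one are affine
-/

set_option autoImplicit false
universe u
open CategoryTheory CategoryTheory.Limits AlgebraicGeometry

namespace K10.AffDimOne

/-- all field-valued base changes of `u` are finite -/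
def FinFib {X Y S : Scheme.{u}} (u : X ⟶ Y) (g : Y ⟶ S) : Prop :=
  ∀ (F : Type u) [Field F] (t : Spec (CommRingCat.of F) ⟶ S), IsFinite (pullback.snd u (pullback.fst g t))

lemma FinFib.bc {X Y S Y' S' : Scheme.{u}} {u : X ⟶ Y} {g : Y ⟶ S} (h : FinFib u g) {g' : Y' ⟶ S'} {b : S' ⟶ S}
    {a : Y' ⟶ Y} (H : a ≫ g = g' ≫ b) : FinFib (pullback.snd u a) g' := by
  intro F _ t
  have h1 := h F (t ≫ b)
  let e : pullback g' t ⟶ pullback g (t ≫ b) := pullback.lift (pullback.fst g' t ≫ a) (pullback.snd g' t) (by
    rw [Category.assoc, H, pullback.condition_assoc])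
  have he : e ≫ pullback.fst g (t ≫ b) = pullback.fst g' t ≫ a := pullback.lift_fst _ _ _
  have h3 : IsPullback (pullback.fst (pullback.snd u a) (pullback.fst g' t) ≫ pullback.fst u a)
      (pullback.snd (pullback.snd u a) (pullback.fst g' t)) u (pullback.fst g' t ≫ a) :=
    (IsPullback.of_hasPullback (pullback.snd u a) (pullback.fst g' t)).flip.paste_vert
      (IsPullback.of_hasPullback u a).flip |>.flip
  rw [← he] at h3
  exact MorphismProperty.of_isPullback (P := @IsFinite)
    (IsPullback.of_right' h3 (IsPullback.of_hasPullback u (pullback.fst g (t ≫ b)))) h1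

section Norm

variable {X Y S : Scheme.{u}} (u : X ⟶ Y) (g : Y ⟶ S)
  [LocallyQuasiFinite u] [LocallyOfFiniteType u] [IsSeparated u] [QuasiCompact u]

/-- the image of `X` in the normalization is closed in the fibres over `S` -/
theorem exists_fibre (h : FinFib u g) (s : S) :
    ∃ (Nt : Scheme.{u}) (p : Nt ⟶ u.normalization), IsPreimmersion p ∧
      Set.range p = (u.fromNormalization ≫ g) ⁻¹' {s} ∧ IsClosed (p ⁻¹' (Set.range u.toNormalization)) := by
  let t := S.fromSpecResidueField s
  let a : pullback g t ⟶ Y := pullback.fst g t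
  let p : pullback u.fromNormalization a ⟶ u.normalization := pullback.fst u.fromNormalization a
  refine ⟨_, p, inferInstance, ?_, ?_⟩
  · rw [Scheme.Pullback.range_fst, Scheme.Pullback.range_fst, Scheme.range_fromSpecResidueField]
    ext z
    simp
  · let j' := pullback.snd u.toNormalization p
    have h1 : IsPullback (pullback.fst u.toNormalization p)
        (j' ≫ pullback.snd u.fromNormalization a) (u.toNormalization ≫ u.fromNormalization) a :=
      (IsPullback.of_hasPullback u.toNormalization p).paste_vert
        (IsPullback.of_hasPullback u.fromNormalization a)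
    rw [u.toNormalization_fromNormalization] at h1
    have h2 : IsFinite (pullback.snd u a) := h (S.residueField s) t
    have h3 : IsFinite (j' ≫ pullback.snd u.fromNormalization a) := by
      have e := h1.isoPullback
      have he : h1.isoPullback.hom ≫ pullback.snd u a = j' ≫ pullback.snd u.fromNormalization a :=
        h1.isoPullback_hom_snd
      rw [← he]
      infer_instance
    have h4 : UniversallyClosed (j' ≫ pullback.snd u.fromNormalization a) := inferInstance
    have h5 : UniversallyClosed j' := .of_comp_of_isSeparated j' (pullback.snd u.fromNormalization a)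
    have h6 : IsClosed (Set.range j') := j'.isClosedMap.isClosed_range
    have h7 : Set.range j' = p ⁻¹' (Set.range u.toNormalization) := Scheme.Pullback.range_snd ..
    rwa [← h7]

theorem mem_range_of_specializes (h : FinFib u g) {x z : u.normalization} (hx : x ∈ Set.range u.toNormalization)
    (hxz : x ⤳ z) (hg : (u.fromNormalization ≫ g) x = (u.fromNormalization ≫ g) z) :
    z ∈ Set.range u.toNormalization := by
  obtain ⟨Nt, p, hp, hr, hc⟩ := exists_fibre u g h ((u.fromNormalization ≫ g) z)
  obtain ⟨x', rfl⟩ : x ∈ Set.range p := by rw [hr]; exact hg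
  obtain ⟨z', rfl⟩ : z ∈ Set.range p := by rw [hr]; rfl
  have h1 : x' ⤳ z' := p.isEmbedding.isInducing.specializes_iff.mp hxz
  exact h1.mem_closed hc hx

/-- over a generic point of the base everything is in the image -/
theorem mem_range_of_generic (h : FinFib u g) {z : u.normalization}
    (hz : ∀ s : S, s ⤳ (u.fromNormalization ≫ g) z → s = (u.fromNormalization ≫ g) z) :
    z ∈ Set.range u.toNormalization := by
  have h1 : z ∈ closure (u.toNormalization '' Set.univ) := by
    rw [Set.image_univ, u.toNormalization.denseRange.closure_range]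
    trivial
  obtain ⟨x, -, hx⟩ := Groth.Agent.Grpsch.ClosureImage.exists_specializes_of_mem_closure_image
    u.toNormalization isClosed_univ h1
  refine mem_range_of_specializes u g h ⟨x, rfl⟩ hx ?_
  exact hz _ (hx.map (u.fromNormalization ≫ g).continuous)

end Norm

/-- The case of a base which is a domain. -/
theorem isAffine_domain {R : Type u} [CommRing R] [IsDomain R] [IsNoetherianRing R] [Ring.KrullDimLE 1 R]
    {X Y : Scheme.{u}} [IsAffine Y] (u : X ⟶ Y) (g : Y ⟶ Spec (CommRingCat.of R))
    [LocallyQuasiFinite u] [LocallyOfFiniteType u] [IsSeparated u] [QuasiCompact u] (h : FinFib u g) :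
    IsAffine X := by
  let N := u.normalization
  let j : X ⟶ N := u.toNormalization
  let π : N ⟶ Spec (CommRingCat.of R) := u.fromNormalization ≫ g
  have hNaff : IsAffine N := isAffine_of_isAffineHom u.fromNormalization
  have hj : IsOpenImmersion j := inferInstanceAs (IsOpenImmersion u.toNormalization)
  -- the complement `Z` of the image lies over a proper closed subset of the base
  let Z : Set N := (Set.range j)ᶜ
  have hZ : IsClosed Z := hj.base_open.isOpen_range.isClosed_compl
  let η : Spec (CommRingCat.of R) := (⊥ : PrimeSpectrum R)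
  have hη : ∀ s : Spec (CommRingCat.of R), s ⤳ η → s = η := by
    intro s hs
    have h1 : (show PrimeSpectrum R from s) ≤ (⊥ : PrimeSpectrum R) :=
      (PrimeSpectrum.le_iff_specializes (show PrimeSpectrum R from s) ⊥).mpr hs
    exact (le_bot_iff (α := PrimeSpectrum R)).mp h1
  have hηZ : η ∉ closure (π '' Z) := by
    intro hc
    obtain ⟨z, hz, hzη⟩ := Groth.Agent.Grpsch.ClosureImage.exists_specializes_of_mem_closure_image π hZ hc
    have h1 : π z = η := hη _ hzη
    refine hz (mem_range_of_generic u g h fun s hs => ?_)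
    change s = π z
    change s ⤳ π z at hs
    rw [h1] at hs ⊢
    exact hη s hs
  obtain ⟨_, ⟨f, rfl⟩, hf1, hf2⟩ := PrimeSpectrum.isTopologicalBasis_basic_opens.exists_subset_of_mem_open
    (a := (⊥ : PrimeSpectrum R)) (u := (closure (π '' Z))ᶜ) hηZ isClosed_closure.isOpen_compl
  have hf0 : f ≠ 0 := by
    intro hf0
    rw [hf0] at hf1
    exact hf1 (Ideal.zero_mem _)
  have hsub : ∀ z : N, f ∉ (π z).asIdeal → z ∈ Set.range j := by
    intro z hz
    by_contra hzj
    exact hf2 hz (subset_closure ⟨z, hzj, rfl⟩)
  -- finitely many closed points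
  have hV : {p : PrimeSpectrum R | f ∈ p.asIdeal}.Finite := by
    have h1 : (Ideal.span {f}).minimalPrimes.Finite := Ideal.finite_minimalPrimes_of_isNoetherianRing R _
    refine (h1.preimage (f := fun p : PrimeSpectrum R => p.asIdeal)
      (fun p _ q _ hpq => PrimeSpectrum.ext hpq)).subset fun p hp => ?_
    have hle : Ideal.span {f} ≤ p.asIdeal := by
      rw [Ideal.span_singleton_le_iff_mem]; exact hp
    refine ⟨⟨p.2, hle⟩, fun q hq hqp => ?_⟩
    have hq1 : q.IsPrime := hq.1
    have hq2 : q ≠ ⊥ := by
      rintro rfl
      exact hf0 (by simpa using hq.2 (Ideal.mem_span_singleton_self f))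
    have hq3 : q.IsMaximal := Ideal.isMaximal_of_isPrime_of_ne_bot q hq2
    exact (hq3.eq_of_le p.2.ne_top hqp).symm.le
  have hVc : ∀ p : PrimeSpectrum R, f ∈ p.asIdeal → IsClosed ({p} : Set (PrimeSpectrum R)) := by
    intro p hp
    rw [PrimeSpectrum.isClosed_singleton_iff_isMaximal]
    refine Ideal.isMaximal_of_isPrime_of_ne_bot p.asIdeal ?_
    intro h0
    rw [h0] at hp
    exact hf0 (by simpa using hp)
  -- the part of `X` over `V(f)` is closed in the normalization
  have hclosed : IsClosed (Set.range j ∩ π ⁻¹' {p : PrimeSpectrum R | f ∈ p.asIdeal}) := by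
    have h1 : Set.range j ∩ π ⁻¹' {p : PrimeSpectrum R | f ∈ p.asIdeal} =
        ⋃ p ∈ {p : PrimeSpectrum R | f ∈ p.asIdeal}, (Set.range j ∩ π ⁻¹' {p}) := by
      ext z
      simp only [Set.mem_inter_iff, Set.mem_preimage, Set.mem_ofPred_eq, Set.mem_iUnion, exists_prop]
      constructor
      · rintro ⟨h1, h2⟩
        exact ⟨π z, h2, h1, rfl⟩
      · rintro ⟨p, h1, h2, h3⟩
        exact ⟨h2, by rw [h3]; exact h1⟩
    rw [h1]
    refine hV.isClosed_biUnion fun p hp => ?_
    obtain ⟨Nt, q, hq, hr, hc⟩ := exists_fibre u g h (p : Spec (CommRingCat.of R))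
    have h2 : Set.range j ∩ π ⁻¹' {p} = q '' (q ⁻¹' (Set.range j)) := by
      rw [Set.image_preimage_eq_inter_range]
      exact congrArg _ hr.symm
    rw [h2]
    have h3 : IsClosed (Set.range q) := by
      rw [hr]
      exact (hVc p hp).preimage π.continuous
    exact (Topology.IsClosedEmbedding.mk q.isEmbedding h3).isClosedMap _ hc
  -- the two charts
  let W : N.Opens := ⟨(Set.range j ∩ π ⁻¹' {p : PrimeSpectrum R | f ∈ p.asIdeal})ᶜ, hclosed.isOpen_compl⟩
  let D : (Spec (CommRingCat.of R)).Opens := PrimeSpectrum.basicOpen f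
  have hD : IsAffineOpen D := IsAffineOpen.Spec_basicOpen (R := CommRingCat.of R) f
  have haff : IsAffineHom j := by
    refine IsZariskiLocalAtTarget.of_forall_exists_morphismRestrict (P := @IsAffineHom) fun z => ?_
    by_cases hz : z ∈ Set.range j
    · refine ⟨j.opensRange, hz, ?_⟩
      have h1 : IsIso (pullback.snd j j) := inferInstance
      exact (MorphismProperty.arrow_mk_iso_iff @IsAffineHom (morphismRestrictOpensRange j j)).mpr inferInstance
    · refine ⟨W, fun hz' => hz hz'.1, ?_⟩
      -- over `W` the morphism is the inclusion of the preimage of `D`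
      have h1 : IsOpenImmersion (j ∣_ W) := inferInstance
      let D' : (W : Scheme.{u}).Opens := (W.ι ≫ π) ⁻¹ᵁ D
      have h2 : Set.range (j ∣_ W) = (D' : Set W) := by
        ext w
        change _ ↔ f ∉ (π (W.ι w)).asIdeal
        constructor
        · rintro ⟨x, rfl⟩ hfw
          exact ((j ∣_ W) x).2 ⟨⟨x.1, (morphismRestrict_base_coe j W x).symm⟩, hfw⟩
        · intro hw
          obtain ⟨x, hx⟩ := hsub _ hw
          have hxW : x ∈ j ⁻¹ᵁ W := by
            change j x ∈ W
            rw [hx]
            exact w.2
          refine ⟨⟨x, hxW⟩, Subtype.ext ?_⟩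
          rw [morphismRestrict_base_coe]
          exact hx
      have h3 : IsAffineHom D'.ι := by
        have h4 : IsAffineHom D.ι := by
          have : IsAffine (D : Scheme.{u}) := hD
          infer_instance
        exact MorphismProperty.of_isPullback (P := @IsAffineHom)
          (isPullback_morphismRestrict (W.ι ≫ π) D) h4
      let e := IsOpenImmersion.isoOfRangeEq (j ∣_ W) D'.ι (by rw [h2, Scheme.Opens.range_ι])
      have he : e.hom ≫ D'.ι = j ∣_ W := IsOpenImmersion.isoOfRangeEq_hom_fac _ _ _
      rw [← he]
      infer_instance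
  exact isAffine_of_isAffineHom j

end K10.AffDimOne
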