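import Groth.Prelude.Def_Red2
import Groth.Prelude.Def_AlgGrp
import Groth.Agent.Sga3B.BcPts
import Groth.Agent.AlgGrp.K402.FinQuot
import Mathlib.CategoryTheory.Monoidal.Cartesian.Grp

/-!
# Central points; rational points of finite normal subgroups are central and of finite order
-/

set_option autoImplicit false
universe u
open CategoryTheory MonoidalCategory CartesianMonoidalCategory MonObj GrpObj AlgebraicGeometry Limits

namespace K10.CentPt

open Groth.Agent Groth.Agent.Sga3B.BcPts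

variable {S S' : Scheme.{u}}

/-- A `T`-valued point commuting with all points of `G` over all `T`-schemes. -/
def IsCentralPt {G : Over S} [GrpObj G] {T : Over S} (z : T ⟶ G) : Prop :=
  ∀ (X : Over S) (t : X ⟶ T) (g : X ⟶ G), Commute (t ≫ z) g

lemma IsCentralPt.comp {G : Over S} [GrpObj G] {T T' : Over S} {z : T ⟶ G} (h : IsCentralPt z)
    (f : T' ⟶ T) : IsCentralPt (f ≫ z) := by
  intro X t g
  rw [← Category.assoc]
  exact h X (t ≫ f) g

lemma isCentralPt_iso_comp {G : Over S} [GrpObj G] {T T' : Over S} (e : T' ≅ T) (z : T ⟶ G) :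
    IsCentralPt (e.hom ≫ z) ↔ IsCentralPt z := by
  refine ⟨fun h => ?_, fun h => h.comp _⟩
  have := h.comp e.inv
  rwa [Iso.inv_hom_id_assoc] at this

lemma isCentralPt_bc_iff {S' : Scheme.{u}} (f : S' ⟶ S) {G : Over S} [GrpObj G] {T : Over S'}
    (z : T ⟶ Red.bc f G) : IsCentralPt z ↔ IsCentralPt ((bcEquiv f T G).symm z) := by
  constructor
  · intro h X t g
    let X' : Over S' := Over.mk (t.left ≫ T.hom)
    let e : (Over.map f).obj X' ≅ X := Over.isoMk (Iso.refl _) (by
      simpa [X'] using (Over.w t).symm)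
    let t' : X' ⟶ T := Over.homMk t.left rfl
    have he : e.hom ≫ t = (Over.map f).map t' := by
      ext1
      simp [e, t']
    have h1 : Commute (t' ≫ z) (bcEquiv f X' G (e.hom ≫ g)) := h X' t' _
    have h2 := h1.map (bcMulEquiv f X' G).symm
    have e1 : (bcMulEquiv f X' G).symm (t' ≫ z) = e.hom ≫ t ≫ (bcEquiv f T G).symm z := by
      rw [← Category.assoc, he]
      exact comp_bcEquiv_symm f t' z
    have e2 : (bcMulEquiv f X' G).symm (bcEquiv f X' G (e.hom ≫ g)) = e.hom ≫ g :=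
      Equiv.symm_apply_apply _ _
    rw [e1, e2] at h2
    have h3 : e.inv ≫ ((e.hom ≫ t ≫ (bcEquiv f T G).symm z) * (e.hom ≫ g)) =
        e.inv ≫ ((e.hom ≫ g) * (e.hom ≫ t ≫ (bcEquiv f T G).symm z)) := by rw [h2.eq]
    simp only [MonObj.comp_mul, Iso.inv_hom_id_assoc] at h3
    exact h3
  · intro h X t g
    have h1 := h ((Over.map f).obj X) ((Over.map f).map t) ((bcEquiv f X G).symm g)
    rw [← comp_bcEquiv_symm] at h1
    have h2 := h1.map (bcMulEquiv f X G)
    have e1 : (bcMulEquiv f X G) ((bcEquiv f X G).symm (t ≫ z)) = t ≫ z := Equiv.apply_symm_apply _ _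
    have e2 : (bcMulEquiv f X G) ((bcEquiv f X G).symm g) = g := Equiv.apply_symm_apply _ _
    rwa [e1, e2] at h2

/-- Central points are the points of the centre. -/
lemma exists_fac_centre {G Z : Over S} [GrpObj G] [GrpObj Z] {j : Z ⟶ G} (hZ : Red.IsCentre j) {T : Over S}
    {z : T ⟶ G} (h : IsCentralPt z) : ∃ y : T ⟶ Z, y ≫ j = z :=
  (hZ.2.2 T z).mpr fun X' x g => by rw [Category.comp_id]; exact (h X' x g).eq

lemma isCentralPt_of_centre {G Z : Over S} [GrpObj G] [GrpObj Z] {j : Z ⟶ G} (hZ : Red.IsCentre j) {T : Over S}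
    (y : T ⟶ Z) : IsCentralPt (y ≫ j) := fun X t g => by
  have := (hZ.2.2 T (y ≫ j)).mp ⟨y, rfl⟩ X t g
  rw [Category.comp_id] at this
  exact this

section field

variable {k : Type u} [Field k]

/-- Two sections of a scheme over a field with the same underlying point are equal. -/
theorem section_ext {X : Scheme.{u}} (p : X ⟶ Spec (CommRingCat.of k)) (s t : Spec (CommRingCat.of k) ⟶ X)
    (hs : s ≫ p = 𝟙 _) (ht : t ≫ p = 𝟙 _)
    (h : s (IsLocalRing.closedPoint k) = t (IsLocalRing.closedPoint k)) : s = t := by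
  have key : ∀ (s : Spec (CommRingCat.of k) ⟶ X) (x : X), s (IsLocalRing.closedPoint k) = x →
      ∃ ψ : X.residueField x ⟶ CommRingCat.of k, Spec.map ψ ≫ X.fromSpecResidueField x = s := by
    rintro s _ rfl
    exact ⟨_, Scheme.descResidueField_stalkClosedPointTo_fromSpecResidueField k X s⟩
  obtain ⟨a, ha⟩ := key s _ h
  obtain ⟨b, hb⟩ := key t _ rfl
  have h1 : Spec.map a ≫ (X.fromSpecResidueField (t (IsLocalRing.closedPoint k)) ≫ p) = 𝟙 _ := by
    rw [← Category.assoc, ha, hs]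
  have h2 : Spec.map b ≫ (X.fromSpecResidueField (t (IsLocalRing.closedPoint k)) ≫ p) = 𝟙 _ := by
    rw [← Category.assoc, hb, ht]
  obtain ⟨c, hc⟩ := Spec.map_surjective (X.fromSpecResidueField (t (IsLocalRing.closedPoint k)) ≫ p)
  rw [← hc, ← Spec.map_comp, ← Spec.map_id, Spec.map_inj] at h1 h2
  have hiso : IsIso a := by
    rw [ConcreteCategory.isIso_iff_bijective]
    refine ⟨a.hom.injective, fun y => ⟨c.hom y, ?_⟩⟩
    exact congr($(h1).hom y)
  have h3 : inv a = c := IsIso.inv_eq_of_inv_hom_id h1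
  have h4 : c ≫ b = c ≫ a := h2.trans h1.symm
  have : IsIso c := h3 ▸ inferInstance
  have h5 : b = a := (cancel_epi c).1 h4
  exact ha.symm.trans ((congrArg (fun z => Spec.map z ≫ X.fromSpecResidueField _) h5.symm).trans hb)

/-- A finite scheme over a field has finitely many rational points. -/
theorem finite_points (X : Over (Spec (CommRingCat.of k))) [IsFinite X.hom] :
    Finite (𝟙_ (Over (Spec (CommRingCat.of k))) ⟶ X) := by
  let p : Spec (CommRingCat.of k) := IsLocalRing.closedPoint k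
  have h1 : (X.hom ⁻¹' {p}).Finite := X.hom.finite_preimage_singleton p
  have h2 : (X.hom ⁻¹' {p} : Set X.left) = Set.univ := Set.eq_univ_of_forall fun x =>
    (Subsingleton.elim (α := PrimeSpectrum k) (X.hom x) p : X.hom x = p)
  rw [h2] at h1
  have : Finite X.left := Set.finite_univ_iff.mp h1
  refine Finite.of_injective (fun x : 𝟙_ (Over (Spec (CommRingCat.of k))) ⟶ X => x.left p) ?_
  intro x y hxy
  ext1
  exact section_ext X.hom x.left y.left (Over.w x) (Over.w y) hxy

theorem exists_pow_eq_one (X : Over (Spec (CommRingCat.of k))) [GrpObj X] [IsFinite X.hom]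
    (x : 𝟙_ (Over (Spec (CommRingCat.of k))) ⟶ X) : ∃ n : ℕ, n ≠ 0 ∧ x ^ n = 1 := by
  have := finite_points X
  obtain ⟨n, hn, h⟩ := isOfFinOrder_iff_pow_eq_one.mp (isOfFinOrder_of_finite x)
  exact ⟨n, hn.ne', h⟩

/-- **Rational points of finite normal subgroups of connected smooth groups are central.** -/
theorem isCentralPt_of_finite {G K : Over (Spec (CommRingCat.of k))} [GrpObj G] [GrpObj K]
    [IsReduced G.left] [ConnectedSpace G.left] (κ : K ⟶ G) [IsMonHom κ] [Mono κ]
    (hn : AlgGrp.IsNormalHom κ) [IsFinite K.hom] (c : 𝟙_ (Over (Spec (CommRingCat.of k))) ⟶ K) :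
    IsCentralPt (c ≫ κ) := by
  obtain ⟨φ, hφ⟩ := hn G (𝟙 G) (toUnit G ≫ c)
  have h1 : η[G] ≫ φ = c := by
    rw [← cancel_mono κ, Category.assoc, ← hφ, MonObj.comp_mul, MonObj.comp_mul, GrpObj.comp_inv,
      Category.comp_id]
    have e1 : η[G] ≫ (toUnit G ≫ c) ≫ κ = c ≫ κ := by
      rw [Category.assoc, ← Category.assoc, toUnit_unique (η[G] ≫ toUnit G) (𝟙 _), Category.id_comp]
    have e2 : (η[G] : 𝟙_ _ ⟶ G) = 1 := by
      rw [Hom.one_def, toUnit_unique (toUnit _) (𝟙 (𝟙_ (Over (Spec (CommRingCat.of k))))), Category.id_comp]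
    rw [e1, e2, _root_.one_mul, _root_.inv_one, _root_.mul_one]
  have h2 : φ = toUnit G ≫ c := K402.FinQuot.eq_const φ η[G] c h1
  intro X t g
  have h3 : g ≫ (𝟙 G * ((toUnit G ≫ c) ≫ κ) * (𝟙 G)⁻¹) = g ≫ φ ≫ κ := by rw [hφ]
  rw [MonObj.comp_mul, MonObj.comp_mul, GrpObj.comp_inv, Category.comp_id, h2] at h3
  have e3 : g ≫ (toUnit G ≫ c) ≫ κ = t ≫ c ≫ κ := by
    simp only [Category.assoc]
    rw [← Category.assoc g, toUnit_unique (g ≫ toUnit G) t]
  rw [e3, mul_inv_eq_iff_eq_mul] at h3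
  exact h3.symm

end field

end K10.CentPt
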