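import Groth.Agent.SGA3x.K10.URZAff
import Groth.Agent.Redsub.H649.ConjLoc
import Groth.Agent.Redsub.H649.QuotCrit
import Groth.Agent.Sga3.H813.RepCrit
import Groth.Agent.Sga3.H665.TorBcNA
import Groth.Agent.Sga3B.TorClosed636
import Groth.Agent.RedSub.H650.QuotPts
import Groth.Agent.S4124
import Groth.Agent.S4116
import Groth.Agent.SGA3x.K5.MTNorm

/-!
# Affineness of a group of unipotent rank zero and of the normalizer of a maximal torus
-/

set_option autoImplicit false
universe u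
open CategoryTheory MonoidalCategory CartesianMonoidalCategory MonObj GrpObj AlgebraicGeometry Limits

namespace K10.NormAff

open Groth.Agent Groth.Agent.Sga3B Groth.Agent.Sga3B.BcPts Groth.Agent.Sga3B.MT
open Groth.Agent.Redsub.H649.ConjPts Groth.Agent.Redsub.H649.QuotCrit Groth.Agent.Redsub.H649.ConjLoc

variable {S : Scheme.{u}}

/-- The two forms of the functor of maximal tori agree. -/
theorem representsTor {G : Over S} [GrpObj G] {M : Over S} {Tu : Over M.left} [GrpObj Tu]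
    {iu : Tu ⟶ Red.bc M.hom G} (h : SGA3x.RepresentsMaxTori G M Tu iu) : RedSub.RepresentsTor G M Tu iu := by
  have hm : Mono iu := h.1.2.1
  refine ⟨h.1, fun S' f H' _ h' hh' => ?_⟩
  have hm' : Mono h' := hh'.2.1
  obtain ⟨v, ⟨hv1, φ, hφ1, hφ2⟩, hv3⟩ := h.2 S' f H' h' hh'
  refine ⟨v, ⟨hv1, fun X y c => Sga3.H813.RepCrit.pt_iff_of_iso h' M iu v φ hφ1 hφ2 X y c⟩, ?_⟩
  rintro g ⟨hg1, hg2⟩
  exact hv3 g ⟨hg1, Sga3.H813.RepCrit.exists_iso_of_pt h' M iu g hg2⟩

/-- Conjugacy by a section, in terms of points. -/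
theorem conjEq_of_conjBy {G T₁ T₂ : Over S} [GrpObj G] {i₁ : T₁ ⟶ G} {i₂ : T₂ ⟶ G} {g : 𝟙_ (Over S) ⟶ G}
    (h : SGA3x.ConjBy i₁ i₂ g) : RedSub.ConjEq i₁ i₂ g := by
  obtain ⟨φ, hφ⟩ := h
  have key : ∀ (X : Over S) (t : X ⟶ T₁), (toUnit X ≫ g) * (t ≫ i₁) * (toUnit X ≫ g)⁻¹ = (t ≫ φ.hom) ≫ i₂ := by
    intro X t
    have h1 := congrArg (fun q => t ≫ q) hφ
    simp only [MonObj.comp_mul, GrpObj.comp_inv, comp_toUnit_assoc] at h1
    rw [h1, Category.assoc]
  intro X' x
  obtain rfl : x = toUnit X' := toUnit_unique _ _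
  refine ⟨fun t => ⟨t ≫ φ.hom, key X' t⟩, fun t' => ⟨t' ≫ φ.inv, ?_⟩⟩
  have h2 := key X' (t' ≫ φ.inv)
  simp only [Category.assoc, Iso.inv_hom_id_assoc] at h2
  rw [← h2, Category.assoc]
  group

/-- Two normalizers of the same subgroup are isomorphic. -/
theorem exists_iso_of_isNormalizerOf {T G N N' : Over S} [GrpObj G] [GrpObj N] [GrpObj N'] {i : T ⟶ G} {n : N ⟶ G}
    {n' : N' ⟶ G} (h : Red.IsNormalizerOf i n) (h' : Red.IsNormalizerOf i n') : ∃ e : N ≅ N', e.hom ≫ n' = n := by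
  obtain ⟨-, h1, h2⟩ := h
  obtain ⟨-, h1', h2'⟩ := h'
  obtain ⟨a, ha⟩ := (h2' N n).mpr ((h2 N n).mp ⟨𝟙 _, Category.id_comp _⟩)
  obtain ⟨b, hb⟩ := (h2 N' n').mpr ((h2' N' n').mp ⟨𝟙 _, Category.id_comp _⟩)
  exact ⟨⟨a, b, by rw [← cancel_mono n, Category.assoc, hb, ha, Category.id_comp],
    by rw [← cancel_mono n', Category.assoc, ha, hb, Category.id_comp]⟩, ha⟩

/-- The normalizer of a torus is closed and smooth. -/
theorem closed_smooth {G T N : Over S} [GrpObj G] [GrpObj T] [GrpObj N] [Smooth G.hom] [IsSeparated G.hom]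
    (i : T ⟶ G) [IsMonHom i] [Mono i] (hT : Red.IsTorus T) (n : N ⟶ G) (hN : Red.IsNormalizerOf i n) :
    IsClosedImmersion n.left ∧ Smooth N.hom := by
  obtain ⟨N', _, n', hN', hcl, hlfp⟩ := (Sga3B.CentNorm900.exists_centralizer_normalizer_torus hT i).2
  obtain ⟨e, he⟩ := exists_iso_of_isNormalizerOf hN hN'
  have he1 : IsIso e.hom.left := inferInstanceAs (IsIso ((Over.forget _).map e.hom))
  have h1 : Smooth N'.hom :=
    Groth.Agent.SGA3x.K5.MTNorm.smooth_normalizer i (K21.MultLoc.isMultTypeFT_of_isTorus hT) n' hN'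
  constructor
  · rw [← he, Over.comp_left]
    infer_instance
  · rw [← Over.w e.hom]
    infer_instance

section main

variable {G T N : Over S} [GrpObj G] [GrpObj T] [GrpObj N] [Smooth G.hom] [QuasiCompact G.hom]
    (haff : ∀ s : S, IsAffine (pullback G.hom (S.fromSpecResidueField s)))
    (hconn : ∀ s : S, _root_.IsConnected (G.hom.base ⁻¹' {s})) (hu : SGA3x.UnipotentRankZero G)
    (i : T ⟶ G) (hT : Red.IsMaximalTorus i) (n : N ⟶ G) (hN : Red.IsNormalizerOf i n)

include haff hconn hu hT hN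

/-- The scheme of maximal tori, which is affine, is the quotient by the normalizer. -/
theorem exists_quotient : ∃ (M : Over S) (q : G ⟶ M), RedSub.IsQuotient n q ∧ IsAffineHom M.hom := by
  obtain ⟨hsep, -⟩ := URZ.sep_qc G hconn
  have h3 : IsMonHom i := hT.1
  have h3' : Mono i := hT.2.1
  obtain ⟨hncl, hNs⟩ := closed_smooth i hT.2.2.1 n hN
  obtain ⟨-, -, ⟨M, Tu, _, iu, k1, k2, k3⟩, -, -⟩ := S4124.result S G haff hconn hu
  have hM := representsTor k1
  have hcl : Classifies i M iu := by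
    intro S' f g₀
    exact hM.2 S' f (Red.bc f T) (fam i g₀)
      (MT.isMaximalTorus_comp_cj g₀ _ (Sga3.H665.TorBcNA.isMaximalTorus_bc f hT))
  have hlc : LocConj i M iu := by
    have h5 : IsSeparated (Red.bc M.hom G).hom := MorphismProperty.pullback_snd _ _ ‹_›
    have h5' : QuasiCompact (Red.bc M.hom G).hom := MorphismProperty.pullback_snd _ _ ‹_›
    have h6 : Smooth (Red.bc M.hom G).hom := MorphismProperty.pullback_snd _ _ ‹_›
    obtain ⟨V, π, e1, e2, g, hg⟩ := S4116.result M.left (Red.bc M.hom G) (Red.bc M.hom T) Tu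
      ((Over.pullback M.hom).map i) iu (Sga3.H665.TorBcNA.isMaximalTorus_bc M.hom hT) hM.1
    exact locConj_of_conjEq fun m => ⟨V, π, inferInstance, inferInstance, π.surjective m, g, conjEq_of_conjBy hg⟩
  obtain ⟨q, hq1, hq2, hq3⟩ := Groth.Agent.Redsub.H649.QuotCrit.exists_quotient hN hNs hcl hlc
  exact ⟨M, q, hq2, k3⟩

/-- `G` is affine if and only if the normalizer of a maximal torus is. -/
theorem isAffineHom_iff : IsAffineHom G.hom ↔ IsAffineHom N.hom := by
  obtain ⟨hsep, -⟩ := URZ.sep_qc G hconn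
  have h3 : IsMonHom i := hT.1
  have h3' : Mono i := hT.2.1
  obtain ⟨hncl, hNs⟩ := closed_smooth i hT.2.2.1 n hN
  constructor
  · intro h
    rw [← Over.w n]
    infer_instance
  · intro h
    obtain ⟨M, q, ⟨hq1, hq2, hq3, hq4⟩, hM⟩ := exists_quotient haff hconn hu i hT n hN
    have sq := hq4.map (Over.forget S)
    have h1 : IsAffineHom (fst G N).left :=
      MorphismProperty.pullback_fst (P := @IsAffineHom) _ _ h
    have h2 : IsAffineHom (pullback.fst q.left q.left) := by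
      obtain ⟨e, he1, he2⟩ : ∃ e : pullback q.left q.left ≅ (G ⊗ N).left, e.hom ≫ (fst G N).left =
          pullback.fst q.left q.left ∧ True := by
        refine ⟨sq.isoPullback.symm, ?_, trivial⟩
        exact sq.isoPullback_inv_fst
      rw [← he1]
      infer_instance
    have h4 : IsAffineHom q.left :=
      MorphismProperty.of_pullback_fst_of_descendsAlong (P := @IsAffineHom)
        (Q := @Surjective ⊓ @Flat ⊓ @LocallyOfFinitePresentation) (f := q.left) (g := q.left)
        ⟨⟨inferInstance, inferInstance⟩, inferInstance⟩ h2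
    rw [← Over.w q]
    infer_instance

end main

end K10.NormAff
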