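import Groth.Agent.Sga3B.RG.BrDiag
import Groth.Agent.Sga3B.GaPts
import Groth.Agent.RedSub.H650.QuotPts

/-!
# The Reynolds operator of a torsor under a diagonalizable group

`N` an affine group over `Spec R`, `t : D(M) ⟶ N` a homomorphism, `q : N ⟶ W` the quotient: there is a
`Γ(W)`-linear retraction `Γ(N) → Γ(W)`.
-/

set_option autoImplicit false
universe u
open CategoryTheory MonoidalCategory CartesianMonoidalCategory MonObj GrpObj AlgebraicGeometry Limits

namespace K10.Reynolds

open Groth.Agent Groth.Agent.Books.AffBridge Groth.Agent.Books.AffBridge2 Groth.Agent.Sga3B.RG.BrDiag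
  Groth.Agent.Sga3B

noncomputable section

variable {R : Type u} [CommRing R] {M : Type} [AddCommGroup M]

/-- Naturality of the points of `DS`. -/
lemma specMap_dsSpec {B C : Type u} [CommRing B] [Algebra R B] [CommRing C] [Algebra R C] (g : B →ₐ[R] C)
    (χ : Multiplicative M →* B) :
    specMap R g ≫ dsSpecEquiv B χ = dsSpecEquiv C ((g : B →* C).comp χ) := by
  change specMap R g ≫ DSPts.dsEquiv (SpecOver R B) M ((gEquiv R B).toRingHom.toMonoidHom.comp χ) =
    DSPts.dsEquiv (SpecOver R C) M _
  rw [DSPts.dsEquiv_naturality]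
  congr 1
  ext m
  exact gEquiv_naturality g _

variable {B C : Type u} [CommRing B] [Algebra R B] [CommRing C] [Algebra R C]

/-- The evaluation at a pair of points. -/
def ev (α : B →ₐ[R] C) (χ : Multiplicative M →* C) : MonoidAlgebra B (Multiplicative M) →ₐ[R] C :=
  MonoidAlgebra.liftNCAlgHom α χ fun _ _ => Commute.all _ _

@[simp] lemma ev_single (α : B →ₐ[R] C) (χ : Multiplicative M →* C) (m : Multiplicative M) (b : B) :
    ev α χ (MonoidAlgebra.single m b) = α b * χ m := by
  simp [ev]

/-- constants -/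
abbrev cst (R : Type u) [CommRing R] (B : Type u) [CommRing B] [Algebra R B] (M : Type) [AddCommGroup M] :
    B →ₐ[R] MonoidAlgebra B (Multiplicative M) := MonoidAlgebra.singleOneAlgHom

variable {N : Over (Spec (CommRingCat.of R))} [GrpObj N] (e : N ≅ SpecOver R B)
  (t : Red.DS (Spec (CommRingCat.of R)) M ⟶ N) [IsMonHom t]

/-- the universal product -/
def act : SpecOver R (MonoidAlgebra B (Multiplicative M)) ⟶ N :=
  (specMap R (cst R B M) ≫ e.inv) * (dsSpecEquiv _ (MonoidAlgebra.of B (Multiplicative M)) ≫ t)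

omit [IsMonHom t] in
lemma ev_act (α : B →ₐ[R] C) (χ : Multiplicative M →* C) :
    specMap R (ev α χ) ≫ act e t = (specMap R α ≫ e.inv) * (dsSpecEquiv C χ ≫ t) := by
  rw [act, MonObj.comp_mul, ← Category.assoc, ← Category.assoc, ← specMap_comp, specMap_dsSpec]
  congr 3
  · congr 1
    ext b
    simp
  · ext m
    simp

/-- the coaction -/
def rho : B →ₐ[R] MonoidAlgebra B (Multiplicative M) := specPreimage R (act e t ≫ e.hom)

omit [IsMonHom t] in
lemma specMap_rho : specMap R (rho e t) ≫ e.inv = act e t := by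
  rw [rho, specMap_specPreimage, Category.assoc, e.hom_inv_id, Category.comp_id]

/-- The coaction is coassociative. -/
lemma coassoc (b : B) :
    ev ((cst R (MonoidAlgebra B (Multiplicative M)) M).comp (rho e t))
      (MonoidAlgebra.of (MonoidAlgebra B (Multiplicative M)) (Multiplicative M)) (rho e t b) =
    ev ((cst R (MonoidAlgebra B (Multiplicative M)) M).comp (cst R B M))
      ((((cst R (MonoidAlgebra B (Multiplicative M)) M) : _ →* _).comp (MonoidAlgebra.of B (Multiplicative M))) *
        MonoidAlgebra.of (MonoidAlgebra B (Multiplicative M)) (Multiplicative M)) (rho e t b) := by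
  have h : ∀ {x y : MonoidAlgebra B (Multiplicative M) →ₐ[R]
      MonoidAlgebra (MonoidAlgebra B (Multiplicative M)) (Multiplicative M)},
      specMap R x ≫ act e t = specMap R y ≫ act e t → x (rho e t b) = y (rho e t b) := by
    intro x y hxy
    rw [← specMap_rho, ← Category.assoc, ← Category.assoc, cancel_mono, ← specMap_comp, ← specMap_comp] at hxy
    exact congrArg (fun z => z b) (specMap_injective R hxy)
  apply h
  rw [ev_act, ev_act, specMap_comp, Category.assoc, specMap_rho, act, MonObj.comp_mul, ← Category.assoc,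
    ← specMap_comp, ← Category.assoc, specMap_dsSpec, map_mul, MonObj.mul_comp, _root_.mul_assoc]

/-- The degree-zero part. -/
def pi0 (b : B) : B := (rho e t b).coeff 1

/-- The degree-zero part is invariant. -/
lemma rho_pi0 (b : B) : rho e t (pi0 e t b) = MonoidAlgebra.single 1 (pi0 e t b) := by
  have h := congrArg (fun z => z.coeff 1) (coassoc e t b)
  have h1 : ∀ x : MonoidAlgebra B (Multiplicative M),
      (ev ((cst R (MonoidAlgebra B (Multiplicative M)) M).comp (rho e t))
        (MonoidAlgebra.of (MonoidAlgebra B (Multiplicative M)) (Multiplicative M)) x).coeff 1 =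
      rho e t (x.coeff 1) := by
    intro x
    induction x using MonoidAlgebra.induction_linear with
    | zero => simp
    | add x y hx hy => rw [map_add, MonoidAlgebra.coeff_add, Finsupp.add_apply, hx, hy,
        MonoidAlgebra.coeff_add, Finsupp.add_apply, map_add]
    | single m b =>
      rw [ev_single]
      by_cases hm : m = 1
      · subst hm
        simp
      · simp [MonoidAlgebra.single_mul_single, hm, Finsupp.single_apply]
  have h2 : ∀ x : MonoidAlgebra B (Multiplicative M),
      (ev ((cst R (MonoidAlgebra B (Multiplicative M)) M).comp (cst R B M))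
        ((((cst R (MonoidAlgebra B (Multiplicative M)) M) : _ →* _).comp (MonoidAlgebra.of B (Multiplicative M))) *
          MonoidAlgebra.of (MonoidAlgebra B (Multiplicative M)) (Multiplicative M)) x).coeff 1 =
      MonoidAlgebra.single 1 (x.coeff 1) := by
    intro x
    induction x using MonoidAlgebra.induction_linear with
    | zero => simp
    | add x y hx hy => rw [map_add, MonoidAlgebra.coeff_add, Finsupp.add_apply, hx, hy,
        MonoidAlgebra.coeff_add, Finsupp.add_apply, MonoidAlgebra.single_add]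
    | single m b =>
      rw [ev_single]
      by_cases hm : m = 1
      · subst hm
        simp
      · simp [MonoidAlgebra.single_mul_single, hm, Finsupp.single_apply]
  simp only [h1, h2] at h
  exact h

section val

variable {N' : Over (Spec (CommRingCat.of R))} {C' : Type u} [CommRing C'] [Algebra R C']

/-- the value of a function at a point -/
def val (x : SpecOver R C ⟶ N') : Γ(N'.left, ⊤) →+* C :=
  (gEquiv R C).symm.toRingHom.comp x.left.appTop.hom

lemma gEquiv_val (x : SpecOver R C ⟶ N') (f : Γ(N'.left, ⊤)) : gEquiv R C (val x f) = x.left.appTop.hom f :=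
  (gEquiv R C).apply_symm_apply _

lemma val_comp (g : C →ₐ[R] C') (x : SpecOver R C ⟶ N') (f : Γ(N'.left, ⊤)) :
    val (specMap R g ≫ x) f = g (val x f) := by
  apply (gEquiv R C').injective
  rw [gEquiv_val, ← gEquiv_naturality, gEquiv_val, Over.comp_left, Scheme.Hom.comp_appTop]
  rfl

lemma val_comp_hom {N'' : Over (Spec (CommRingCat.of R))} (x : SpecOver R C ⟶ N') (q : N' ⟶ N'')
    (f : Γ(N''.left, ⊤)) : val (x ≫ q) f = val x (q.left.appTop.hom f) := by
  apply (gEquiv R C).injective
  rw [gEquiv_val, gEquiv_val, Over.comp_left, Scheme.Hom.comp_appTop]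
  rfl

/-- a function with given values -/
def ofB (e' : N' ≅ SpecOver R B) : B →+* Γ(N'.left, ⊤) :=
  e'.hom.left.appTop.hom.comp (gEquiv R B).toRingHom

lemma val_ofB (e' : N' ≅ SpecOver R B) (b : B) : val e'.inv (ofB e' b) = b := by
  apply (gEquiv R B).injective
  rw [gEquiv_val]
  change (e'.hom.left.appTop ≫ e'.inv.left.appTop).hom (gEquiv R B b) = gEquiv R B b
  rw [← Scheme.Hom.comp_appTop, ← Over.comp_left, e'.inv_hom_id]
  simp

lemma ofB_val (e' : N' ≅ SpecOver R B) (f : Γ(N'.left, ⊤)) : ofB e' (val e'.inv f) = f := by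
  change e'.hom.left.appTop.hom (gEquiv R B (val e'.inv f)) = f
  rw [gEquiv_val]
  change (e'.inv.left.appTop ≫ e'.hom.left.appTop).hom f = f
  rw [← Scheme.Hom.comp_appTop, ← Over.comp_left, e'.hom_inv_id]
  simp

end val

/-- The invariant part of a function has the same values on `n` and `n t`. -/
lemma val_mul (b : B) (a : SpecOver R C ⟶ N) (y : SpecOver R C ⟶ Red.DS (Spec (CommRingCat.of R)) M) :
    val (a * (y ≫ t)) (ofB e (pi0 e t b)) = val a (ofB e (pi0 e t b)) := by
  obtain ⟨α, hα⟩ : ∃ α : B →ₐ[R] C, specMap R α ≫ e.inv = a :=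
    ⟨specPreimage R (a ≫ e.hom), by rw [specMap_specPreimage, Category.assoc, e.hom_inv_id, Category.comp_id]⟩
  obtain ⟨χ, rfl⟩ := (dsSpecEquiv C).surjective y
  rw [← hα, ← ev_act, ← specMap_rho, val_comp, val_comp, val_comp, val_ofB, rho_pi0, ev_single, map_one,
    _root_.mul_one]

/-- Functions as morphisms to `Ga`: invariance. -/
lemma mul_comp_gaPt (b : B) {T : Over (Spec (CommRingCat.of R))} (a : T ⟶ N)
    (y : T ⟶ Red.DS (Spec (CommRingCat.of R)) M) :
    (a * (y ≫ t)) ≫ GaPts.gaPt N (ofB e (pi0 e t b)) = a ≫ GaPts.gaPt N (ofB e (pi0 e t b)) := by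
  have hNa : IsAffine N.left := by
    have : IsIso e.hom.left := inferInstanceAs (IsIso ((Over.forget _).map e.hom))
    exact .of_isIso e.hom.left
  have hDa : IsAffine (Red.DS (Spec (CommRingCat.of R)) M).left := isAffine_DS
  have hPa : IsAffine (N ⊗ Red.DS (Spec (CommRingCat.of R)) M).left := by
    rw [Over.tensorObj_left]
    infer_instance
  obtain ⟨D, _, _, ⟨e'⟩⟩ := exists_specOver (N ⊗ Red.DS (Spec (CommRingCat.of R)) M)
  have key : (fst N _ * (snd N (Red.DS (Spec (CommRingCat.of R)) M) ≫ t)) ≫ GaPts.gaPt N (ofB e (pi0 e t b)) =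
      fst N _ ≫ GaPts.gaPt N (ofB e (pi0 e t b)) := by
    rw [← cancel_epi e'.inv]
    rw [← Category.assoc, ← Category.assoc, MonObj.comp_mul, ← Category.assoc]
    rw [GaPts.comp_gaPt, GaPts.comp_gaPt]
    congr 1
    have h1 := val_mul e t b (e'.inv ≫ fst N _) (e'.inv ≫ snd N (Red.DS (Spec (CommRingCat.of R)) M))
    have h2 := congrArg (gEquiv R D) h1
    rw [gEquiv_val, gEquiv_val] at h2
    exact h2
  have h3 := congrArg (fun z => lift a y ≫ z) key
  simp only [← Category.assoc, MonObj.comp_mul, lift_fst, lift_snd] at h3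
  exact h3

variable [Mono t] {W : Over (Spec (CommRingCat.of R))} (q : N ⟶ W) (hq : RedSub.IsQuotient t q)

omit [IsMonHom t] [Mono t] in
include hq in
lemma appTop_injective : Function.Injective q.left.appTop.hom := by
  have := RedSub.H650.QuotPts.epi_of_isQuotient hq
  intro c c' h
  have h1 : q ≫ GaPts.gaPt W c = q ≫ GaPts.gaPt W c' := by
    rw [GaPts.comp_gaPt, GaPts.comp_gaPt]
    exact congrArg _ h
  have h2 := congrArg Red.gaFn ((cancel_epi q).1 h1)
  rwa [GaPts.gaFn_gaPt, GaPts.gaFn_gaPt] at h2

include e hq in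
/-- **The Reynolds operator.** -/
theorem exists_reynolds : ∃ π : Γ(N.left, ⊤) → Γ(W.left, ⊤), π 1 = 1 ∧ (∀ f g, π (f + g) = π f + π g) ∧
      ∀ (c : Γ(W.left, ⊤)) (f : Γ(N.left, ⊤)), π (q.left.appTop.hom c * f) = c * π f := by
  have hinj := appTop_injective t q hq
  have hex : ∀ f : Γ(N.left, ⊤), ∃ c : Γ(W.left, ⊤), q.left.appTop.hom c = ofB e (pi0 e t (val e.inv f)) := by
    intro f
    obtain ⟨w, hw⟩ := RedSub.H650.QuotPts.exists_desc hq (GaPts.gaPt N (ofB e (pi0 e t (val e.inv f))))
      (fun T a y => mul_comp_gaPt e t _ a y)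
    refine ⟨Red.gaFn w, ?_⟩
    have h1 := congrArg Red.gaFn hw
    rw [GaPts.gaFn_gaPt] at h1
    rw [← h1, ← GaPts.gaPt_gaFn W w, GaPts.comp_gaPt, GaPts.gaFn_gaPt, GaPts.gaFn_gaPt]
  choose π hπ using hex
  refine ⟨π, ?_, fun f g => ?_, fun c f => ?_⟩
  · apply hinj
    rw [hπ, map_one, map_one]
    simp [pi0]
  · apply hinj
    rw [hπ, map_add, map_add, hπ, hπ, ← map_add]
    congr 1
    simp [pi0]
  · apply hinj
    rw [hπ, map_mul, map_mul, hπ]
    have h1 : rho e t (val e.inv (q.left.appTop.hom c)) =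
        MonoidAlgebra.single 1 (val e.inv (q.left.appTop.hom c)) := by
      rw [← val_comp, specMap_rho, ← val_comp_hom, act, RedSub.H650.QuotPts.mul_comp hq, val_comp_hom, val_comp]
      rfl
    have h2 : pi0 e t (val e.inv (q.left.appTop.hom c) * val e.inv f) =
        val e.inv (q.left.appTop.hom c) * pi0 e t (val e.inv f) := by
      rw [pi0, map_mul, h1, pi0, MonoidAlgebra.coeff_single_one_mul]
    rw [h2, map_mul, ofB_val]

end

end K10.Reynolds
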